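import Groth.Agent.HypSqLib.Indep
import Groth.Agent.SurfNumLib.IdealMul

/-! The sum of the diagonal and the graph of the involution. -/

set_option autoImplicit false
set_option linter.style.haveILetI false
set_option linter.unusedSectionVars false

universe u

open CategoryTheory CategoryTheory.Limits AlgebraicGeometry TopologicalSpace Opposite
open KFlatLib (pb puSecLE)
open AmpleLib (GenOn GenAt res)

noncomputable section

namespace HypSqLib

attribute [local instance] overSq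

/-- The inclusion of ideal modules. -/
theorem exists_incl {X : Scheme.{u}} {I J : X.IdealSheafData} (h : I ≤ J) :
    ∃ v : ClSub.idealMod I ⟶ ClSub.idealMod J, v ≫ ClSub.idealModι J = ClSub.idealModι I := by
  refine ⟨kernel.lift _ (ClSub.idealModι I) ?_, kernel.lift_ι _ _ _⟩
  let h₀ := ClSub.idealModι I ≫ ClSub.toSubscheme J
  show h₀ = 0
  refine Scheme.Modules.hom_ext _ _ fun U => ConcreteCategory.hom_ext _ _ fun t => ?_
  refine TopCat.Sheaf.eq_of_locally_eq' (F := ⟨(ClSub.quotMod J).presheaf, (ClSub.quotMod J).isSheaf⟩)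
    (fun W : {W : X.affineOpens // W.1 ≤ U} => W.1.1) U (fun W => homOfLE W.2) ?_ _ _ fun W => ?_
  · intro x hx
    obtain ⟨V, hV, hxV, hVU⟩ := exists_isAffineOpen_mem_and_subset hx
    exact Opens.mem_iSup.mpr ⟨⟨⟨V, hV⟩, hVU⟩, hxV⟩
  · show res (ClSub.quotMod J) W.2 (h₀.app U t) = res (ClSub.quotMod J) W.2 ((0 : ClSub.idealMod I ⟶ ClSub.quotMod J).app U t)
    refine Eq.trans ?_ (map_zero _).symm
    refine (QCohLib.app_map h₀ (homOfLE W.2) t).symm.trans ?_
    have h1 : (show Γ(X, W.1.1) from (ClSub.idealModι I).app W.1.1 (res _ W.2 t)) ∈ I.ideal W.1 :=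
      (IntMultLib.toSubscheme_app_eq_zero_iff I W.1 _).mp
        (ConcreteCategory.congr_hom (congrArg (fun φ : ClSub.idealMod I ⟶ ClSub.quotMod I => φ.app W.1.1)
          (kernel.condition (ClSub.toSubscheme I))) _)
    exact (IntMultLib.toSubscheme_app_eq_zero_iff J W.1 _).mpr (h W.1 h1)

/-- The middle interchange. -/
def middle {X : Scheme.{u}} (A B C D : X.Modules) :
    CohB1.tensorMod (CohB1.tensorMod A B) (CohB1.tensorMod C D) ≅
      CohB1.tensorMod (CohB1.tensorMod A C) (CohB1.tensorMod B D) :=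
  HilbPolyLib.assocIso _ _ _ ≪≫ HilbPolyLib.congrRight A ((HilbPolyLib.assocIso B C D).symm ≪≫
    HilbPolyLib.congrLeft (HilbPolyLib.swapIso B C) D ≪≫ HilbPolyLib.assocIso C B D) ≪≫
      (HilbPolyLib.assocIso _ _ _).symm

variable {k : Type u} [Field k] [IsAlgClosed k] {C : Scheme.{u}} [C.Over (Spec (CommRingCat.of k))]
  [IsProper (C ↘ Spec (CommRingCat.of k))] [Smooth (C ↘ Spec (CommRingCat.of k))] [ConnectedSpace C]
  (hdim : topologicalKrullDim C = 1)
  {g : ℕ} (hg : 2 ≤ g) (hgen : Curv2.genus k C = g) (κ : C ⟶ CohB1.ProjSpace 1 k)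
  (hκ : κ ≫ CohB1.ProjSpace.toSpec 1 k = C ↘ Spec (CommRingCat.of k)) [IsFinite κ] [Flat κ]
  (hκ2 : ∀ y : ↥(CohB1.ProjSpace 1 k), κ.finrank y = 2)
  (σ : C ⟶ C) (hσp : σ ≫ (C ↘ Spec (CommRingCat.of k)) = C ↘ Spec (CommRingCat.of k))

theorem id_over : 𝟙 C ≫ (C ↘ Spec (CommRingCat.of k)) = C ↘ Spec (CommRingCat.of k) := Category.id_comp _

theorem range_gr [IsIntegral C] (τ : C ⟶ C) (hτp : τ ≫ (C ↘ Spec (CommRingCat.of k)) = C ↘ Spec (CommRingCat.of k)) :
    Set.range (gr τ hτp) = closure {gr τ hτp (genericPoint C)} := by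
  haveI := isClosedImmersion_gr τ hτp
  rw [← Set.image_singleton (f := ⇑(gr τ hτp)) (a := genericPoint C), (gr τ hτp).isClosedEmbedding.closure_image_eq,
    genericPoint_closure, Set.image_univ]

theorem generic_notMem [IsIntegral C] (hσ1 : σ ≠ 𝟙 C) :
    gr σ hσp (genericPoint C) ∉ Set.range (gr (k := k) (𝟙 C) id_over) := by
  rintro ⟨c, hc⟩
  haveI := isClosedImmersion_gr (k := k) (𝟙 C) id_over
  haveI := isClosedImmersion_gr σ hσp
  have e1 : c = genericPoint C := by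
    have h := congrArg (pullback.fst (C ↘ Spec (CommRingCat.of k)) (C ↘ Spec (CommRingCat.of k))) hc
    rw [← Scheme.Hom.comp_apply, ← Scheme.Hom.comp_apply, gr_fst, gr_fst] at h
    exact h
  subst e1
  have hr : Set.range (gr σ hσp) = Set.range (gr (k := k) (𝟙 C) id_over) := by rw [range_gr, range_gr, hc]
  have hker : (gr (k := k) (𝟙 C) id_over).ker ≤ (gr σ hσp).ker := by
    rw [AlgSpRegLib.ker_eq_vanishingIdeal, AlgSpRegLib.ker_eq_vanishingIdeal, hr]
  have hfac := IsClosedImmersion.lift_fac (gr (k := k) (𝟙 C) id_over) (gr σ hσp) hker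
  have a := congrArg (· ≫ pullback.fst _ _) hfac
  have b := congrArg (· ≫ pullback.snd _ _) hfac
  simp only [Category.assoc, gr_fst, gr_snd, Category.comp_id] at a b
  exact hσ1 (b.symm.trans a)

/-- The zero scheme of the alternating section. -/
abbrev Jd : (sq k C).IdealSheafData := PicF2.zeroScheme (B1 κ) (dhom κ)

include hdim hκ hκ2 in
theorem B1_inv : PicF.IsInvertible (B1 (k := k) κ) :=
  box_inv (pencil hdim κ hκ hκ2).1 (pencil hdim κ hκ hκ2).1

include hdim hκ hκ2 in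
theorem Jd_le_ker (τ : C ⟶ C) (hτp : τ ≫ (C ↘ Spec (CommRingCat.of k)) = C ↘ Spec (CommRingCat.of k))
    (hτ : τ ≫ κ = κ) : Jd κ ≤ (gr τ hτp).ker := by
  haveI := isClosedImmersion_gr τ hτp
  have hB := B1_inv (k := k) hdim κ hκ hκ2
  let ι := gr τ hτp
  refine Scheme.IdealSheafData.le_of_iSup_eq_top
    (fun W : {W : (sq k C).affineOpens // (Jd κ).ideal W ≤ ι.ker.ideal W} => W.1) ?_ (fun W => W.2)
  refine eq_top_iff.2 fun p _ => Opens.mem_iSup.2 ?_
  by_cases hp : p ∈ Set.range ι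
  · obtain ⟨x, rfl⟩ := hp
    obtain ⟨i, hi⟩ := exists_mem_Uc κ x
    have h1 : ι x ∈ pullback.fst (C ↘ Spec (CommRingCat.of k)) (C ↘ Spec (CommRingCat.of k)) ⁻¹ᵁ Uc κ i := by
      show (ι ≫ pullback.fst _ _) x ∈ Uc κ i
      rw [gr_fst]; exact hi
    have h2 : ι x ∈ pullback.snd (C ↘ Spec (CommRingCat.of k)) (C ↘ Spec (CommRingCat.of k)) ⁻¹ᵁ Uc κ i := by
      show (ι ≫ pullback.snd _ _) x ∈ Uc κ i
      rw [gr_snd]
      show (τ ≫ κ) x ∈ Dl k i
      rw [hτ]; exact hi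
    refine ⟨⟨⟨Wc κ i, isAffineOpen_Wc κ i⟩, ?_⟩, h1, h2⟩
    rw [zero_ideal κ hB i, Ideal.span_singleton_le_iff_mem, Scheme.Hom.ker_apply, RingHom.mem_ker,
      Scheme.Hom.app_eq_appLE]
    exact gr_cW_invariant κ τ hτp hτ le_rfl
  · obtain ⟨W, hW, hpW, hWsub⟩ := exists_isAffineOpen_mem_and_subset
      (U := ⟨(Set.range ι)ᶜ, ι.isClosedEmbedding.isClosed_range.isOpen_compl⟩) (x := p) hp
    refine ⟨⟨⟨W, hW⟩, fun a _ => ?_⟩, hpW⟩
    rw [Scheme.Hom.ker_apply, RingHom.mem_ker]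
    have he : ι ⁻¹ᵁ W = ⊥ := Opens.ext (Set.eq_empty_of_forall_notMem fun x hx => hWsub hx ⟨x, rfl⟩)
    haveI : Subsingleton Γ(C, ι ⁻¹ᵁ W) := by rw [he]; infer_instance
    exact Subsingleton.elim _ _

include hdim in
theorem effCartier (τ : C ⟶ C) (hτp : τ ≫ (C ↘ Spec (CommRingCat.of k)) = C ↘ Spec (CommRingCat.of k)) :
    BlowUp.IsEffCartierIdeal (gr τ hτp).ker :=
  IntMultLib.isEffCartier_of_isInvertible _ (ideal_inv τ hτp hdim)

include hdim hκ hκ2 in
theorem Jd_le_mul (hσ : σ ≫ κ = κ) (hσ1 : σ ≠ 𝟙 C) :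
    Jd κ ≤ (gr (k := k) (𝟙 C) id_over).ker * (gr σ hσp).ker := by
  haveI := integral k C
  haveI := isClosedImmersion_gr σ hσp
  haveI := isClosedImmersion_gr (k := k) (𝟙 C) id_over
  let Δ := gr (k := k) (𝟙 C) id_over
  let Γσ := gr σ hσp
  have h1 := Jd_le_ker hdim κ hκ hκ2 (𝟙 C) id_over (Category.id_comp κ)
  have h2 := Jd_le_ker hdim κ hκ hκ2 σ hσp hσ
  have hI := effCartier hdim (𝟙 C) (id_over (k := k))
  refine Scheme.IdealSheafData.le_of_iSup_eq_top
    (fun W : {W : (sq k C).affineOpens // ∃ a, Δ.ker.ideal W = Ideal.span {a}} => W.1) ?_ (fun W => ?_)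
  · refine eq_top_iff.2 fun p _ => Opens.mem_iSup.2 ?_
    obtain ⟨V, hpV, a, -, ha⟩ := hI p
    exact ⟨⟨V, a, ha⟩, hpV⟩
  obtain ⟨V, a, ha⟩ := W
  show (Jd κ).ideal V ≤ (Δ.ker * Γσ.ker).ideal V
  intro c hc
  rw [Scheme.IdealSheafData.ideal_mul, Pi.mul_apply]
  have hca : c ∈ Δ.ker.ideal V := h1 V hc
  rw [ha, Ideal.mem_span_singleton'] at hca
  obtain ⟨d, rfl⟩ := hca
  rw [mul_comm d a]
  refine Ideal.mul_mem_mul (ha ▸ Ideal.mem_span_singleton_self a) ?_
  have hc' := h2 V hc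
  rw [Scheme.Hom.ker_apply, RingHom.mem_ker, map_mul] at hc'
  rw [Scheme.Hom.ker_apply, RingHom.mem_ker]
  by_cases hne : (Γσ ⁻¹ᵁ V.1 : Set C).Nonempty
  · haveI : Nonempty (Γσ ⁻¹ᵁ V.1) := hne.to_subtype
    haveI : IsDomain Γ(C, Γσ ⁻¹ᵁ V.1) := inferInstance
    refine (mul_eq_zero.1 hc').resolve_right fun ha0 => generic_notMem σ hσp hσ1 ?_
    have hηV : Γσ (genericPoint C) ∈ V.1 := by
      obtain ⟨x, hx⟩ := hne
      exact ((genericPoint_spec C).specializes trivial).mem_open (Γσ ⁻¹ᵁ V.1).isOpen hx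
    have hsup : Γσ (genericPoint C) ∈ Δ.ker.support := by
      refine ((Scheme.IdealSheafData.mem_support_iff_of_mem (U := V) hηV).mpr ?_)
      rw [ha, Scheme.zeroLocus_span, Scheme.mem_zeroLocus_iff]
      rintro b rfl hb
      have : genericPoint C ∈ C.basicOpen (Γσ.app V.1 b) := by
        rw [← Scheme.preimage_basicOpen]; exact hb
      rw [ha0, Scheme.basicOpen_zero] at this
      exact this
    rw [← SetLike.mem_coe, Scheme.Hom.support_ker, Δ.isClosedEmbedding.isClosed_range.closure_eq] at hsup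
    exact hsup
  · have he : Γσ ⁻¹ᵁ V.1 = ⊥ := Opens.ext (Set.not_nonempty_iff_eq_empty.1 hne)
    haveI : Subsingleton Γ(C, Γσ ⁻¹ᵁ V.1) := by rw [he]; infer_instance
    exact Subsingleton.elim _ _

end HypSqLib
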