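import Groth.Agent.CurveFFLib.HyperPowers
import Groth.Agent.CurveFFLib.DoubleUniq
import Groth.Agent.CurveFFLib.DoubleLine
import Groth.Agent.CurveDualLib.Family
import Groth.Agent.FibVALib.Curve
import Groth.Agent.GenusZeroLib.Degrees
import Groth.Agent.IntFunLib.NList
import Groth.Agent.IntFunLib.Push
import Groth.Agent.IntFunLib.NefApps
import Groth.Agent.ProjFormLib.Proj
import Groth.Agent.S7843
import Groth.Agent.S14339
import Groth.Agent.S14340

/-! Numerical facts about the pencil of a hyperelliptic curve. -/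

set_option autoImplicit false
set_option linter.style.haveILetI false
set_option linter.unusedSectionVars false

universe u

open CategoryTheory CategoryTheory.Limits AlgebraicGeometry
open KFlatLib (pb)

noncomputable section

namespace HypSqLib

theorem integral (k : Type u) [Field k] (C : Scheme.{u}) [C.Over (Spec (CommRingCat.of k))]
    [IsProper (C ↘ Spec (CommRingCat.of k))] [Smooth (C ↘ Spec (CommRingCat.of k))] [ConnectedSpace C] :
    IsIntegral C := Groth.Agent.S7843.isIntegral_of_smooth (k := k)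

variable {k : Type u} [Field k] [IsAlgClosed k] {C : Scheme.{u}} [C.Over (Spec (CommRingCat.of k))]
  [IsProper (C ↘ Spec (CommRingCat.of k))] [Smooth (C ↘ Spec (CommRingCat.of k))] [ConnectedSpace C]

theorem geomConn : GeometricallyConnected (C ↘ Spec (CommRingCat.of k)) := by
  haveI := integral k C
  haveI := CurveBCLib.geometricallyIntegral_of_sepClosed (k := k) (X := C)
  exact ⟨fun K _ y Z f g h => by
    haveI : IsIntegral Z := GeometricallyIntegral.geometrically_isIntegral _ _ _ h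
    infer_instance⟩

variable (hdim : topologicalKrullDim C = 1)

include hdim in
theorem hh0_structure : Module.finrank k (Coh.HH C (Coh.structureModule C) 0) = 1 := by
  haveI := integral k C
  haveI := geomConn (k := k) (C := C)
  exact CurveFFLib.h0_of_geomConnected (k := k) hdim

include hdim in
theorem euler_structure : Curv2.euler k C (Coh.structureModule C) = 1 - (Curv2.genus k C : ℤ) := by
  haveI := integral k C
  rw [CurvLib.euler_curve hdim, hh0_structure hdim, Curv2.genus]; simp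

include hdim in
theorem euler_eq_deg (M : C.Modules) :
    Curv2.euler k C M = Curv2.deg k C M 1 + 1 - (Curv2.genus k C : ℤ) := by
  rw [Curv2.deg, euler_structure hdim]; push_cast; ring

include hdim in
theorem deg_add {L M : C.Modules} (hL : PicF.IsInvertible L) (hM : PicF.IsInvertible M) :
    Curv2.deg k C (CohB1.tensorMod L M) 1 = Curv2.deg k C L 1 + Curv2.deg k C M 1 := by
  haveI := integral k C
  exact GenusZeroLib.deg_tensor k hdim hL hM

theorem deg_unit : Curv2.deg k C (Coh.structureModule C) 1 = 0 := by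
  rw [Curv2.deg]; simp

include hdim in
theorem deg_pow {L : C.Modules} (hL : PicF.IsInvertible L) : ∀ n : ℕ,
    Curv2.deg k C (CohB1.tensorPow L n) 1 = n * Curv2.deg k C L 1
  | 0 => by show Curv2.deg k C (Coh.structureModule C) 1 = _; rw [deg_unit]; simp
  | n + 1 => by
    show Curv2.deg k C (CohB1.tensorMod (CohB1.tensorPow L n) L) 1 = _
    rw [deg_add hdim (AmpleThLib.tensorPow_isInvertible hL n) hL, deg_pow hL n]; push_cast; ring

include hdim in
theorem deg_inverse {L M : C.Modules} (hL : PicF.IsInvertible L) (e : CohB1.tensorMod L M ≅ Coh.structureModule C) :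
    Curv2.deg k C M 1 = -Curv2.deg k C L 1 := by
  have h := deg_add (k := k) hdim hL (IntMultLib.isInvertible_of_inverse hL e)
  rw [CurvLib.deg_congr (k := k) e, deg_unit] at h
  linarith

include hdim in
theorem h1_zero {L : C.Modules} (hL : PicF.IsInvertible L)
    (h : 2 * (Curv2.genus k C : ℤ) - 1 ≤ Curv2.deg k C L 1) : Subsingleton (Coh.HH C L 1) := by
  haveI := integral k C
  haveI := geomConn (k := k) (C := C)
  haveI := CurveBCLib.geometricallyIntegral_of_sepClosed (k := k) (X := C)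
  exact FibVALib.h1_vanish k C hdim hL h

include hdim in
theorem h0_zero {L : C.Modules} (hL : PicF.IsInvertible L) (h : Curv2.deg k C L 1 < 0) :
    Subsingleton (Coh.HH C L 0) := by
  haveI := integral k C
  by_contra hn
  rw [not_subsingleton_iff_nontrivial] at hn
  obtain ⟨φ, hφ⟩ := CurvLib.exists_hom_ne_zero hn
  have := CurvLib.euler_le (k := k) CurvLib.isInvertible_structureModule hL hdim hφ
  rw [Curv2.deg] at h; push_cast at h
  linarith

include hdim in
theorem hh0_eq {L : C.Modules} (hL : PicF.IsInvertible L) :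
    (Module.finrank k (Coh.HH C L 0) : ℤ) =
      Curv2.deg k C L 1 + 1 - (Curv2.genus k C : ℤ) + Module.finrank k (Coh.HH C L 1) := by
  haveI := integral k C
  rw [← euler_eq_deg hdim, CurvLib.euler_curve hdim]; ring

variable {g : ℕ} (hg : 2 ≤ g) (hgen : Curv2.genus k C = g) (κ : C ⟶ CohB1.ProjSpace 1 k)
  (hκ : κ ≫ CohB1.ProjSpace.toSpec 1 k = C ↘ Spec (CommRingCat.of k)) [IsFinite κ] [Flat κ]
  (hκ2 : ∀ y : ↥(CohB1.ProjSpace 1 k), κ.finrank y = 2)

/-- The pencil. -/
abbrev Lκ : C.Modules := (Scheme.Modules.pullback κ).obj (Twist.twistProjSpace 1 k 1)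

include hdim hκ hκ2 in
theorem pencil : PicF.IsInvertible (Lκ κ) ∧ Curv2.deg k C (Lκ κ) 1 = 2 ∧
    2 ≤ Module.finrank k (Coh.HH C (Lκ κ) 0) := by
  haveI := integral k C
  letI : (CohB1.ProjSpace 1 k).Over (Spec (CommRingCat.of k)) := ⟨CohB1.ProjSpace.toSpec 1 k⟩
  haveI : IsProper (CohB1.ProjSpace 1 k ↘ Spec (CommRingCat.of k)) := ProjDegLib.toSpec_isProper k 1
  haveI : Smooth (CohB1.ProjSpace 1 k ↘ Spec (CommRingCat.of k)) := GenusZeroLib.smooth_toSpec 1 k
  haveI : IsIntegral (CohB1.ProjSpace 1 k) := GenusZeroLib.isIntegral_projSpace k 1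
  exact CurveFFLib.pencil_of_double (k := k) hdim κ hκ
    ((CurveFFLib.residueDegree_eq_finrank (k := k) hdim (GenusZeroLib.dim_projSpace k 1) κ).trans (hκ2 _))

include hdim hκ hκ2 in
theorem pow_inv (n : ℕ) : PicF.IsInvertible (CohB1.tensorPow (Lκ κ) n) :=
  AmpleThLib.tensorPow_isInvertible (pencil hdim κ hκ hκ2).1 n

include hdim hκ hκ2 in
theorem deg_Lpow (n : ℕ) : Curv2.deg k C (CohB1.tensorPow (Lκ κ) n) 1 = 2 * n := by
  rw [deg_pow hdim (pencil hdim κ hκ hκ2).1, (pencil hdim κ hκ hκ2).2.1]; ring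

include hdim hg hgen hκ hκ2 in
theorem hh_small {s : ℕ} (hs : s + 1 ≤ g) :
    Module.finrank k (Coh.HH C (CohB1.tensorPow (Lκ κ) s) 0) = s + 1 ∧
      (Module.finrank k (Coh.HH C (CohB1.tensorPow (Lκ κ) s) 1) : ℤ) = g - s := by
  haveI := geomConn (k := k) (C := C)
  have h0 := Groth.Agent.S14340.result k C hdim g hg hgen κ hκ hκ2 s hs
  refine ⟨h0, ?_⟩
  have h := hh0_eq (k := k) hdim (pow_inv hdim κ hκ hκ2 s)
  rw [h0, deg_Lpow hdim κ hκ hκ2, hgen] at h
  push_cast at h; linarith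

include hdim hgen hκ hκ2 in
theorem h1_big {s : ℕ} (hs : g ≤ s) : Subsingleton (Coh.HH C (CohB1.tensorPow (Lκ κ) s) 1) := by
  refine h1_zero (k := k) hdim (pow_inv hdim κ hκ hκ2 s) ?_
  rw [deg_Lpow hdim κ hκ hκ2, hgen]; omega

include hdim hgen hκ hκ2 in
theorem hh0_big {s : ℕ} (hs : g ≤ s) :
    (Module.finrank k (Coh.HH C (CohB1.tensorPow (Lκ κ) s) 0) : ℤ) = 2 * s + 1 - g := by
  haveI := h1_big hdim hgen κ hκ hκ2 hs
  have h := hh0_eq (k := k) hdim (pow_inv hdim κ hκ hκ2 s)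
  rw [deg_Lpow hdim κ hκ hκ2, hgen,
    Module.finrank_zero_of_subsingleton (M := Coh.HH C (CohB1.tensorPow (Lκ κ) s) 1)] at h
  push_cast at h; linarith

include hdim hg hgen hκ hκ2 in
theorem omega_iso :
    Nonempty (Omega.sheaf (C ↘ Spec (CommRingCat.of k)) ≅ CohB1.tensorPow (Lκ κ) (g - 1)) := by
  haveI := geomConn (k := k) (C := C)
  obtain ⟨e⟩ := CurveDualLib.nonempty_iso_omega k C hdim (pow_inv hdim κ hκ hκ2 (g - 1))
    (by rw [deg_Lpow hdim κ hκ hκ2, hgen]; omega)
    (by rw [(hh_small hdim hg hgen κ hκ hκ2 (s := g - 1) (by omega)).1, hgen]; omega)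
  exact ⟨e.symm⟩

theorem pb_Lκ {σ : C ⟶ C} (hσ : σ ≫ κ = κ) : Nonempty (pb σ (Lκ κ) ≅ Lκ κ) :=
  ⟨(Scheme.Modules.pullbackComp σ κ).app _ ≪≫ (Scheme.Modules.pullbackCongr hσ).app _⟩

theorem pb_Lpow {σ : C ⟶ C} (hσ : σ ≫ κ = κ) (n : ℕ) :
    Nonempty (pb σ (CohB1.tensorPow (Lκ κ) n) ≅ CohB1.tensorPow (Lκ κ) n) := by
  obtain ⟨a⟩ := CurveDualLib.nonempty_pb_tensorPow σ (Lκ κ) n
  obtain ⟨b⟩ := pb_Lκ κ hσ
  obtain ⟨c⟩ := CurveDualLib.nonempty_tensorPow_congr b n
  exact ⟨a ≪≫ c⟩

include hdim hg hgen hκ hκ2 in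
theorem invol_sq (h2 : (2 : k) ≠ 0) {σ : C ⟶ C} (hσ : σ ≫ κ = κ) (hσ1 : σ ≠ 𝟙 C) : σ ≫ σ = 𝟙 C := by
  haveI := integral k C
  letI : (CohB1.ProjSpace 1 k).Over (Spec (CommRingCat.of k)) := ⟨CohB1.ProjSpace.toSpec 1 k⟩
  haveI : IsProper (CohB1.ProjSpace 1 k ↘ Spec (CommRingCat.of k)) := ProjDegLib.toSpec_isProper k 1
  haveI : Smooth (CohB1.ProjSpace 1 k ↘ Spec (CommRingCat.of k)) := GenusZeroLib.smooth_toSpec 1 k
  haveI : IsIntegral (CohB1.ProjSpace 1 k) := GenusZeroLib.isIntegral_projSpace k 1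
  have h0P := Groth.Agent.S14339.finrank_h0_projSpace_one k
  have hgP : Curv2.genus k (CohB1.ProjSpace 1 k) = 0 := by
    rw [← CurveDualLib.genus_eq' (GenusZeroLib.dim_projSpace k 1) h0P]
    exact CurveFFLib.genus_line
  obtain ⟨τ, -, hττ, hτ1, hτ, -⟩ := CurveFFLib.exists_invol_of_double (k := k) hdim h2 κ hκ (hκ2 _)
  rw [CurveFFLib.invol_unique (k := k) hdim (hh0_structure hdim) (hgen.symm ▸ hg)
    (GenusZeroLib.dim_projSpace k 1) h0P hgP (GenusZeroLib.dim_projSpace k 1) h0P hgP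
    κ hκ (hκ2 _) κ hκ (hκ2 _) h2 hσ hσ1 hτ hτ1]
  exact hττ

include hdim in
/-- Degrees are invariant under automorphisms. -/
theorem deg_pb_iso (σ : C ⟶ C) [IsIso σ] (hσp : σ ≫ (C ↘ Spec (CommRingCat.of k)) = C ↘ Spec (CommRingCat.of k))
    {L : C.Modules} (hL : PicF.IsInvertible L) : Curv2.deg k C (pb σ L) 1 = Curv2.deg k C L 1 := by
  haveI := integral k C
  haveI := CurvLib.isNoetherian k (X := C)
  have h := IntFunLib.N_push (k := k) (g := σ) hσp (l := [L]) (by simpa using hL)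
    (DevissLib.isCoh_structureModule C) ((topologicalKrullDim_subspace_le _ _).trans (by rw [hdim]; simp))
  change IntFunLib.N k [pb σ L] (Coh.structureModule C) = _ at h
  haveI : IsIso (ClSub.unitToPush σ) := by
    refine ProjFormLib.isIso_of_sections _ fun x => ⟨⊤, trivial, fun V _ => ?_⟩
    exact ConcreteCategory.bijective_of_isIso (σ.app V)
  rw [← IntFunLib.N_congr (k := k) _ (asIso (ClSub.unitToPush σ)), ← IntFunLib.euler_sub_eq_N,
    ← IntFunLib.euler_sub_eq_N] at h
  rw [Curv2.deg, Curv2.deg]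
  push_cast; linarith

end HypSqLib
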