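import Groth.Agent.HypSqLib.Curve
import Groth.Agent.SurfNumLib.CastSev
import Groth.Agent.SurfNumLib.RR
import Groth.Agent.S7635

/-! Cohomology of box products on the square of a curve. -/

set_option autoImplicit false
set_option linter.style.haveILetI false
set_option linter.unusedSectionVars false

universe u

open CategoryTheory CategoryTheory.Limits AlgebraicGeometry
open KFlatLib (pb)

noncomputable section

namespace HypSqLib

section Seq

variable {k : Type u} [Field k] {X : Scheme.{u}} [X.Over (Spec (CommRingCat.of k))]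

theorem finite_of_zero {M : X.Modules} [IsProper (X ↘ Spec (CommRingCat.of k))] (hM : Coh.IsCoh M) {n : ℕ}
    (h : Module.finrank k (Coh.HH X M n) = 0) : Subsingleton (Coh.HH X M n) := by
  haveI := CurvLib.isNoetherian k (X := X)
  haveI := CurvLib.finite_HH (k := k) hM n
  exact Module.finrank_zero_iff.1 h

variable {S : ShortComplex X.Modules} (hS : S.ShortExact) [IsProper (X ↘ Spec (CommRingCat.of k))]
  (h₁ : Coh.IsCoh S.X₁) (h₂ : Coh.IsCoh S.X₂) (h₃ : Coh.IsCoh S.X₃)

include hS h₁ h₂ h₃

theorem mid_le (n : ℕ) : Module.finrank k (Coh.HH X S.X₂ n) ≤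
    Module.finrank k (Coh.HH X S.X₁ n) + Module.finrank k (Coh.HH X S.X₃ n) := by
  haveI := CurvLib.isNoetherian k (X := X)
  haveI := CurvLib.finite_HH (k := k) h₁ n
  haveI := CurvLib.finite_HH (k := k) h₂ n
  haveI := CurvLib.finite_HH (k := k) h₃ n
  rw [← LinearMap.finrank_range_add_finrank_ker (CurvLib.hMap (k := k) S.g n), ← CurvLib.exact₂ hS n, add_comm]
  exact Nat.add_le_add (LinearMap.finrank_range_le _) (Submodule.finrank_le _)

theorem left_le : Module.finrank k (Coh.HH X S.X₁ 0) ≤ Module.finrank k (Coh.HH X S.X₂ 0) := by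
  haveI := CurvLib.isNoetherian k (X := X)
  haveI := CurvLib.finite_HH (k := k) h₂ 0
  exact LinearMap.finrank_le_finrank_of_injective (CurvLib.injective₀ (k := k) hS)

theorem h0_add (hz : Module.finrank k (Coh.HH X S.X₁ 1) = 0) :
    Module.finrank k (Coh.HH X S.X₂ 0) =
      Module.finrank k (Coh.HH X S.X₁ 0) + Module.finrank k (Coh.HH X S.X₃ 0) := by
  haveI := CurvLib.isNoetherian k (X := X)
  haveI := CurvLib.finite_HH (k := k) h₁ 0
  haveI := CurvLib.finite_HH (k := k) h₂ 0
  haveI := finite_of_zero h₁ hz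
  have hs : LinearMap.range (CurvLib.hMap (k := k) S.g 0) = ⊤ := by
    rw [CurvLib.exact₃ hS 0, LinearMap.ker_eq_top]
    exact LinearMap.ext fun x => Subsingleton.elim _ _
  rw [← LinearMap.finrank_range_add_finrank_ker (CurvLib.hMap (k := k) S.g 0), hs, ← CurvLib.exact₂ hS 0,
    finrank_top, LinearMap.finrank_range_of_inj (CurvLib.injective₀ (k := k) hS), add_comm]

end Seq

variable {k : Type u} [Field k] [IsAlgClosed k] {C : Scheme.{u}} [C.Over (Spec (CommRingCat.of k))]

/-- The square of the curve. -/
abbrev sq (k : Type u) [Field k] (C : Scheme.{u}) [C.Over (Spec (CommRingCat.of k))] : Scheme.{u} :=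
  pullback (C ↘ Spec (CommRingCat.of k)) (C ↘ Spec (CommRingCat.of k))

/-- The square of the curve over the field. -/
@[reducible] def overSq (k : Type u) [Field k] (C : Scheme.{u}) [C.Over (Spec (CommRingCat.of k))] :
    (sq k C).Over (Spec (CommRingCat.of k)) := ⟨pullback.fst _ _ ≫ (C ↘ Spec (CommRingCat.of k))⟩

attribute [local instance] overSq

variable [IsProper (C ↘ Spec (CommRingCat.of k))] [Smooth (C ↘ Spec (CommRingCat.of k))] [ConnectedSpace C]

theorem proper_sq : IsProper (sq k C ↘ Spec (CommRingCat.of k)) :=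
  inferInstanceAs (IsProper (pullback.fst _ _ ≫ (C ↘ Spec (CommRingCat.of k))))

theorem smooth_sq : Smooth (sq k C ↘ Spec (CommRingCat.of k)) :=
  inferInstanceAs (Smooth (pullback.fst _ _ ≫ (C ↘ Spec (CommRingCat.of k))))

variable (hdim : topologicalKrullDim C = 1)

include hdim in
theorem integral_sq : IsIntegral (sq k C) ∧ topologicalKrullDim ↥(sq k C) = ((2 : ℕ) : WithBot ℕ∞) := by
  haveI := integral k C
  haveI := geomConn (k := k) (C := C)
  exact SurfNumLib.integral_prod (k := k) (C := C) (C' := C) hdim hdim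

include hdim in
theorem euler_three (T : (sq k C).Modules) : Curv2.euler k (sq k C) T =
    (Module.finrank k (Coh.HH (sq k C) T 0) : ℤ) - Module.finrank k (Coh.HH (sq k C) T 1) +
      Module.finrank k (Coh.HH (sq k C) T 2) := by
  haveI := proper_sq (k := k) (C := C)
  exact SurfNumLib.euler_eq_three (k := k) (integral_sq hdim).2.le

/-- The box product. -/
abbrev box (F G : C.Modules) : (sq k C).Modules :=
  CohB1.tensorMod (pb (pullback.fst _ _) F) (pb (pullback.snd _ _) G)

theorem box_inv {F G : C.Modules} (hF : PicF.IsInvertible F) (hG : PicF.IsInvertible G) :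
    PicF.IsInvertible (box (k := k) F G) :=
  HilbPolyLib.isInvertible_tensor (AmpleDevLib.isInvertible_pb _ hF) (AmpleDevLib.isInvertible_pb _ hG)

variable {F G : C.Modules} (hF : Coh.IsCoh F) (hG : Coh.IsCoh G)

include hdim hF hG in
theorem hh_box :
    Module.finrank k (Coh.HH (sq k C) (box F G) 0) =
      Module.finrank k (Coh.HH C F 0) * Module.finrank k (Coh.HH C G 0) ∧
    Module.finrank k (Coh.HH (sq k C) (box F G) 1) =
      Module.finrank k (Coh.HH C F 0) * Module.finrank k (Coh.HH C G 1) +
        Module.finrank k (Coh.HH C F 1) * Module.finrank k (Coh.HH C G 0) ∧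
    Module.finrank k (Coh.HH (sq k C) (box F G) 2) =
      Module.finrank k (Coh.HH C F 1) * Module.finrank k (Coh.HH C G 1) := by
  haveI := integral k C
  haveI := CurvLib.isNoetherian k (X := C)
  haveI : ∀ p, Module.Finite k (Coh.HH C F p) := fun p => CurvLib.finite_HH (k := k) hF p
  haveI : ∀ p, Module.Finite k (Coh.HH C G p) := fun p => CurvLib.finite_HH (k := k) hG p
  haveI : CompactSpace C := inferInstance
  haveI : IsAffineHom (pullback.diagonal (C ↘ Spec (CommRingCat.of k))) := inferInstance
  have key : ∀ n, Module.finrank k (Coh.HH (sq k C) (box F G) n) = ∑ p : Fin (n + 1),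
      Module.finrank k (Coh.HH C F p) * Module.finrank k (Coh.HH C G (n - p)) := fun n => by
    obtain ⟨e⟩ := Groth.Agent.S7635.result k C C F hF.1 G hG.1 n
    rw [← e.finrank_eq, Module.finrank_pi_fintype]
    exact Finset.sum_congr rfl fun p _ => Module.finrank_tensorProduct
  haveI := CurvLib.h_vanish_of_two_le k hdim F 2 le_rfl
  haveI := CurvLib.h_vanish_of_two_le k hdim G 2 le_rfl
  have zF : Module.finrank k (Coh.HH C F 2) = 0 := Module.finrank_zero_of_subsingleton
  have zG : Module.finrank k (Coh.HH C G 2) = 0 := Module.finrank_zero_of_subsingleton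
  refine ⟨by rw [key, Fin.sum_univ_one]; rfl, by rw [key, Fin.sum_univ_two]; rfl, ?_⟩
  rw [key, Fin.sum_univ_three]
  change Module.finrank k (Coh.HH C F 0) * Module.finrank k (Coh.HH C G 2) +
    Module.finrank k (Coh.HH C F 1) * Module.finrank k (Coh.HH C G 1) +
      Module.finrank k (Coh.HH C F 2) * Module.finrank k (Coh.HH C G 0) = _
  rw [zF, zG]; ring

include hdim hF hG in
theorem euler_box :
    Curv2.euler k (sq k C) (box F G) = Curv2.euler k C F * Curv2.euler k C G := by
  haveI := integral k C
  obtain ⟨h0, h1, h2⟩ := hh_box (k := k) hdim hF hG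
  rw [euler_three hdim, h0, h1, h2, CurvLib.euler_curve hdim, CurvLib.euler_curve hdim]
  push_cast; ring

end HypSqLib
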