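import Groth.Agent.HypSqLib.Coord
import Groth.Agent.AlgSpRegLib.ImageReduced
import Groth.Agent.AmpleFinGenLib.Divisor
import Groth.Agent.RpushLib.HBase

/-! The section cutting out the diagonal and the graph of the involution. -/

set_option autoImplicit false
set_option linter.style.haveILetI false
set_option linter.unusedSectionVars false

universe u

open CategoryTheory CategoryTheory.Limits AlgebraicGeometry TopologicalSpace Opposite
open KFlatLib (pb puSecLE)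
open AmpleLib (GenOn res)
open AmpleLib (shT)
open AmpleThLib (shT_genOn)

noncomputable section

namespace HypSqLib

attribute [local instance] overSq

variable {k : Type u} [Field k] {C : Scheme.{u}} [C.Over (Spec (CommRingCat.of k))]
  (κ : C ⟶ CohB1.ProjSpace 1 k)

/-- `L ⊠ L`. -/
abbrev B1 : (sq k C).Modules := box (Lκ κ) (Lκ κ)

/-- First projection of sections. -/
def S₁ (j : Fin 2) : Γ(pb (pullback.fst (C ↘ Spec (CommRingCat.of k)) (C ↘ Spec (CommRingCat.of k))) (Lκ κ), ⊤) :=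
  puSecLE _ (Lκ κ) (le_top : (⊤ : (sq k C).Opens) ≤ _ ⁻¹ᵁ ⊤) (Asec κ j)

/-- Second projection of sections. -/
def S₂ (j : Fin 2) : Γ(pb (pullback.snd (C ↘ Spec (CommRingCat.of k)) (C ↘ Spec (CommRingCat.of k))) (Lκ κ), ⊤) :=
  puSecLE _ (Lκ κ) (le_top : (⊤ : (sq k C).Opens) ≤ _ ⁻¹ᵁ ⊤) (Asec κ j)

/-- The alternating section. -/
def dsec : Γ(B1 κ, ⊤) := shT (S₁ κ 1) (S₂ κ 0) - shT (S₁ κ 0) (S₂ κ 1)

/-- The alternating section as a map. -/
def dhom : Coh.structureModule (sq k C) ⟶ B1 κ := QCohLib.unitHom _ (dsec κ)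

/-- Charts of the square. -/
abbrev Wc (i : Fin 2) : (sq k C).Opens :=
  pullback.fst (C ↘ Spec (CommRingCat.of k)) (C ↘ Spec (CommRingCat.of k)) ⁻¹ᵁ Uc κ i ⊓
    pullback.snd (C ↘ Spec (CommRingCat.of k)) (C ↘ Spec (CommRingCat.of k)) ⁻¹ᵁ Uc κ i

/-- The first coefficient. -/
def q₁ (i j : Fin 2) : Γ(sq k C, Wc κ i) :=
  (pullback.fst (C ↘ Spec (CommRingCat.of k)) (C ↘ Spec (CommRingCat.of k))).appLE (Uc κ i) (Wc κ i) inf_le_left (tco κ i j)

/-- The second coefficient. -/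
def q₂ (i j : Fin 2) : Γ(sq k C, Wc κ i) :=
  (pullback.snd (C ↘ Spec (CommRingCat.of k)) (C ↘ Spec (CommRingCat.of k))).appLE (Uc κ i) (Wc κ i) inf_le_right (tco κ i j)

/-- The equation on a chart. -/
def cW (i : Fin 2) : Γ(sq k C, Wc κ i) := q₁ κ i 1 * q₂ κ i 0 - q₁ κ i 0 * q₂ κ i 1

/-- The generator on a chart. -/
def eW (i : Fin 2) : Γ(B1 κ, Wc κ i) :=
  shT (puSecLE _ (Lκ κ) (inf_le_left : Wc κ i ≤ _) (agen κ i)) (puSecLE _ (Lκ κ) (inf_le_right : Wc κ i ≤ _) (agen κ i))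

theorem eW_genOn (i : Fin 2) : GenOn (B1 κ) (eW κ i) :=
  shT_genOn (CubeLib.genOn_puSecLE _ (agen_genOn κ i) _) (CubeLib.genOn_puSecLE _ (agen_genOn κ i) _)

theorem res_S₁ (i j : Fin 2) :
    res _ (le_top : Wc κ i ≤ ⊤) (S₁ κ j) =
      q₁ κ i j • puSecLE _ (Lκ κ) (inf_le_left : Wc κ i ≤ _) (agen κ i) := by
  rw [q₁, ← KFlatLib.puSecLE_smul, tco_spec, CubeLib.puSecLE_res, S₁]
  exact AmpleLib.res_res _ _ _ _

theorem res_S₂ (i j : Fin 2) :
    res _ (le_top : Wc κ i ≤ ⊤) (S₂ κ j) =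
      q₂ κ i j • puSecLE _ (Lκ κ) (inf_le_right : Wc κ i ≤ _) (agen κ i) := by
  rw [q₂, ← KFlatLib.puSecLE_smul, tco_spec, CubeLib.puSecLE_res, S₂]
  exact AmpleLib.res_res _ _ _ _

theorem secOn_dhom (i : Fin 2) : cW κ i • eW κ i = MeroLib.secOn (dhom κ) (Wc κ i) := by
  have h : MeroLib.secOn (dhom κ) (Wc κ i) = res (B1 κ) le_top (dsec κ) := by
    rw [AmpleFinGenLib.secOn_eq_res]
    congr 1
    show (QCohLib.unitHom (B1 κ) (dsec κ)).app ⊤ (1 : Γ(sq k C, ⊤)) = dsec κ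
    rw [QCohLib.unitHom_app, one_smul]
    exact AmpleLib.res_refl _ _
  rw [h, dsec, show ∀ a b : Γ(B1 κ, ⊤), res (B1 κ) (le_top : Wc κ i ≤ ⊤) (a - b) =
    res (B1 κ) le_top a - res (B1 κ) le_top b from fun a b => map_sub _ a b, AmpleLib.shT_res, AmpleLib.shT_res, res_S₁, res_S₂, res_S₁, res_S₂,
    AmpleLib.shT_smul, AmpleLib.shT_smul, cW, eW, sub_smul]

section Affine

variable [IsAffineHom κ]

theorem isAffineOpen_Wc (i : Fin 2) : IsAffineOpen (Wc κ i) :=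
  RpushLib.isAffineOpen_fibre (IsPullback.of_hasPullback (C ↘ Spec (CommRingCat.of k)) (C ↘ Spec (CommRingCat.of k)))
    (isAffineOpen_top _) (isAffineOpen_Uc κ i) le_top (isAffineOpen_Uc κ i) le_top

theorem zero_ideal (hB : PicF.IsInvertible (B1 (k := k) κ)) (i : Fin 2) :
    (PicF2.zeroScheme (B1 κ) (dhom κ)).ideal ⟨Wc κ i, isAffineOpen_Wc κ i⟩ = Ideal.span {cW κ i} :=
  MeroLib.zeroScheme_ideal_of_genOn hB (dhom κ) (W := ⟨Wc κ i, isAffineOpen_Wc κ i⟩) (eW_genOn κ i) (secOn_dhom κ i)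

end Affine

variable [IsAlgClosed k] [IsProper (C ↘ Spec (CommRingCat.of k))] [Smooth (C ↘ Spec (CommRingCat.of k))]
  [ConnectedSpace C] (τ : C ⟶ C) (hτp : τ ≫ (C ↘ Spec (CommRingCat.of k)) = C ↘ Spec (CommRingCat.of k))

theorem le_Uc_left {i : Fin 2} {V : C.Opens} (hV : V ≤ gr τ hτp ⁻¹ᵁ Wc κ i) : V ≤ Uc κ i :=
  fun x hx => by
    have h : (gr τ hτp ≫ pullback.fst _ _) x ∈ Uc κ i := (hV hx).1
    rw [gr_fst] at h
    exact h

theorem le_Uc_right {i : Fin 2} {V : C.Opens} (hV : V ≤ gr τ hτp ⁻¹ᵁ Wc κ i) : V ≤ τ ⁻¹ᵁ Uc κ i :=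
  fun x hx => by
    have h : (gr τ hτp ≫ pullback.snd _ _) x ∈ Uc κ i := (hV hx).2
    rw [gr_snd] at h
    exact h

theorem gr_cW {i : Fin 2} {V : C.Opens} (hV : V ≤ gr τ hτp ⁻¹ᵁ Wc κ i) :
    (gr τ hτp).appLE (Wc κ i) V hV (cW κ i) =
      C.presheaf.map (homOfLE (le_Uc_left κ τ hτp hV)).op (tco κ i 1) *
          τ.appLE (Uc κ i) V (le_Uc_right κ τ hτp hV) (tco κ i 0) -
        C.presheaf.map (homOfLE (le_Uc_left κ τ hτp hV)).op (tco κ i 0) *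
          τ.appLE (Uc κ i) V (le_Uc_right κ τ hτp hV) (tco κ i 1) := by
  have h1 : ∀ j, (gr τ hτp).appLE (Wc κ i) V hV (q₁ κ i j) =
      C.presheaf.map (homOfLE (le_Uc_left κ τ hτp hV)).op (tco κ i j) := fun j => by
    rw [q₁, ← ConcreteCategory.comp_apply, Scheme.Hom.appLE_comp_appLE]
    refine (ConcreteCategory.congr_hom (OmegaSh.appLE_congr_hom (gr_fst τ hτp) _ (le_Uc_left κ τ hτp hV)) _).trans ?_
    simp [Scheme.Hom.appLE]
    rfl
  have h2 : ∀ j, (gr τ hτp).appLE (Wc κ i) V hV (q₂ κ i j) =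
      τ.appLE (Uc κ i) V (le_Uc_right κ τ hτp hV) (tco κ i j) := fun j => by
    rw [q₂, ← ConcreteCategory.comp_apply, Scheme.Hom.appLE_comp_appLE]
    exact ConcreteCategory.congr_hom (OmegaSh.appLE_congr_hom (gr_snd τ hτp) _ _) _
  rw [cW, map_sub, map_mul, map_mul, h1, h1, h2, h2]

theorem gr_cW_invariant (hτ : τ ≫ κ = κ) {i : Fin 2} {V : C.Opens} (hV : V ≤ gr τ hτp ⁻¹ᵁ Wc κ i) :
    (gr τ hτp).appLE (Wc κ i) V hV (cW κ i) = 0 := by
  rw [gr_cW, tco_invariant κ hτ i 0 (le_Uc_left κ τ hτp hV), tco_invariant κ hτ i 1 (le_Uc_left κ τ hτp hV),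
    mul_comm, sub_self]

end HypSqLib
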