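import Groth.Agent.HypSqLib.Main
import Groth.Agent.TwistLib.CoordGen
import Groth.Agent.TwistLib.PtApp
import Groth.Agent.CubeLib.Glue

/-! The coordinates of the double cover. -/

set_option autoImplicit false
set_option linter.style.haveILetI false
set_option linter.unusedSectionVars false

universe u

open CategoryTheory CategoryTheory.Limits AlgebraicGeometry TopologicalSpace
open KFlatLib (pb puSecLE)
open AmpleLib (GenOn res)

noncomputable section

namespace HypSqLib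

section Line

variable (k : Type u) [Field k]

/-- `O(1)` on the line. -/
abbrev O1 : (CohB1.ProjSpace 1 k).Modules := Twist.twist (CohB1.polyGrading 1 k) ((1 : ℕ) : ℤ)

/-- The two coordinates. -/
def coordSec (j : Fin 2) : Γ(O1 k, ⊤) :=
  Twist.globalOf (CohB1.polyGrading 1 k) ⟨MvPolynomial.X j, MvPolynomial.isHomogeneous_X k j⟩

/-- The standard affine opens. -/
def Dl (i : Fin 2) : (CohB1.ProjSpace 1 k).Opens := Proj.basicOpen (CohB1.polyGrading 1 k) (MvPolynomial.X i)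

theorem coord_genOn (i : Fin 2) : GenOn (O1 k) (res (O1 k) (le_top : Dl k i ≤ ⊤) (coordSec k i)) :=
  TwistLib.globalOf_genOn (CohB1.polyGrading 1 k) (MvPolynomial.isHomogeneous_X k i)

theorem isAffineOpen_Dl (i : Fin 2) : IsAffineOpen (Dl k i) :=
  Proj.isAffineOpen_basicOpen (CohB1.polyGrading 1 k) _ (MvPolynomial.isHomogeneous_X k i) Nat.one_pos

theorem exists_mem_Dl (x : ↥(CohB1.ProjSpace 1 k)) : ∃ i, x ∈ Dl k i := by
  classical
  let b := Pi.basisFun k (Fin 2)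
  let ι : (Fin 2 → k) →ₗ[k] MvPolynomial (Fin 2) k := Module.Basis.constr b k MvPolynomial.X
  have hι : ∀ m, ι m ∈ CohB1.polyGrading 1 k 1 := by
    intro m
    rw [Module.Basis.constr_apply_fintype]
    exact sum_mem fun i _ => Submodule.smul_mem _ _ (MvPolynomial.isHomogeneous_X k i)
  have h := TwistLib.SymUP.iSup_D_of_span (CohB1.polyGrading 1 k) ι hι
    (SymmetricAlgebra.IsSymmetricAlgebra.mvPolynomial (Fin 2) b) b.span_eq
  obtain ⟨⟨_, i, rfl⟩, hi⟩ := Opens.mem_iSup.mp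
    (show x ∈ ⨆ m : Set.range b, Proj.basicOpen (CohB1.polyGrading 1 k) (ι m.1) by rw [h]; trivial)
  refine ⟨i, ?_⟩
  rw [b.constr_basis k] at hi
  exact hi

theorem exists_coef (i j : Fin 2) : ∃ T : Γ(CohB1.ProjSpace 1 k, Dl k i),
    T • res (O1 k) (le_top : Dl k i ≤ ⊤) (coordSec k i) = res (O1 k) le_top (coordSec k j) := by
  obtain ⟨T, hT⟩ := (coord_genOn k i (Dl k i) le_rfl).2 (res (O1 k) le_top (coordSec k j))
  exact ⟨T, by simpa only [AmpleLib.res_refl] using hT⟩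

/-- The ratio of coordinates. -/
def coef (i j : Fin 2) : Γ(CohB1.ProjSpace 1 k, Dl k i) := (exists_coef k i j).choose

theorem coef_spec (i j : Fin 2) :
    coef k i j • res (O1 k) (le_top : Dl k i ≤ ⊤) (coordSec k i) = res (O1 k) le_top (coordSec k j) :=
  (exists_coef k i j).choose_spec

theorem coef_self (i : Fin 2) : coef k i i = 1 := by
  refine (coord_genOn k i (Dl k i) le_rfl).1 ?_
  simp only [AmpleLib.res_refl, one_smul]
  exact coef_spec k i i

end Line

variable {k : Type u} [Field k] {C : Scheme.{u}} (κ : C ⟶ CohB1.ProjSpace 1 k)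

/-- The charts on the curve. -/
abbrev Uc (i : Fin 2) : C.Opens := κ ⁻¹ᵁ Dl k i

/-- The pencil's basis. -/
def Asec (j : Fin 2) : Γ(Lκ κ, ⊤) := puSecLE κ (O1 k) (le_top : (⊤ : C.Opens) ≤ κ ⁻¹ᵁ ⊤) (coordSec k j)

/-- The generators on the charts. -/
def agen (i : Fin 2) : Γ(Lκ κ, Uc κ i) := res (Lκ κ) le_top (Asec κ i)

/-- The coefficients on the charts. -/
def tco (i j : Fin 2) : Γ(C, Uc κ i) := κ.app (Dl k i) (coef k i j)

theorem res_Asec (i j : Fin 2) :
    res (Lκ κ) (le_top : Uc κ i ≤ ⊤) (Asec κ j) =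
      puSecLE κ (O1 k) (le_refl (Uc κ i)) (res (O1 k) le_top (coordSec k j)) := by
  rw [CubeLib.puSecLE_res, Asec]
  show (pb κ (O1 k)).presheaf.map _ _ = _
  rw [KFlatLib.puSecLE_apply, KFlatLib.puSecLE_apply]
  exact AmpleLib.res_res (pb κ (O1 k)) _ _ _

theorem agen_genOn (i : Fin 2) : GenOn (Lκ κ) (agen κ i) := by
  rw [agen, res_Asec]
  exact CubeLib.genOn_puSecLE κ (coord_genOn k i) le_rfl

theorem tco_spec (i j : Fin 2) : tco κ i j • agen κ i = res (Lκ κ) (le_top : Uc κ i ≤ ⊤) (Asec κ j) := by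
  rw [agen, res_Asec, res_Asec, ← coef_spec k i j, KFlatLib.puSecLE_smul, tco, Scheme.Hom.app_eq_appLE]
  rfl

theorem tco_self (i : Fin 2) : tco κ i i = 1 := by rw [tco, coef_self, map_one]

theorem tco_invariant {σ : C ⟶ C} (hσ : σ ≫ κ = κ) (i j : Fin 2) {V : C.Opens} (h₁ : V ≤ Uc κ i)
    (h₂ : V ≤ σ ⁻¹ᵁ Uc κ i) :
    σ.appLE (Uc κ i) V h₂ (tco κ i j) = C.presheaf.map (homOfLE h₁).op (tco κ i j) := by
  rw [tco, Scheme.Hom.app_eq_appLE, ← ConcreteCategory.comp_apply, ← ConcreteCategory.comp_apply,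
    Scheme.Hom.appLE_comp_appLE, Scheme.Hom.appLE_map]
  exact congrFun (congrArg (fun φ : Γ(CohB1.ProjSpace 1 k, Dl k i) ⟶ Γ(C, V) => (φ : _ → _))
    (OmegaSh.appLE_congr_hom hσ _ _)) _

theorem exists_mem_Uc (x : C) : ∃ i, x ∈ Uc κ i := exists_mem_Dl k (κ x)

theorem isAffineOpen_Uc [IsAffineHom κ] (i : Fin 2) : IsAffineOpen (Uc κ i) := (isAffineOpen_Dl k i).preimage κ

end HypSqLib
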