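import Groth.Agent.HypSqLib.Diag
import Groth.Agent.SurfNumLib.CastSev
import Groth.Agent.CohCmpLib.UnitFibre

/-! `Δ + Γ_σ ~ F_1`. -/

set_option autoImplicit false
set_option linter.style.haveILetI false
set_option linter.unusedSectionVars false

universe u

open CategoryTheory CategoryTheory.Limits AlgebraicGeometry TopologicalSpace Opposite
open KFlatLib (pb puSecLE puSec)
open AmpleLib (GenOn GenAt res)

noncomputable section

namespace HypSqLib

attribute [local instance] overSq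

variable {k : Type u} [Field k] [IsAlgClosed k] {C : Scheme.{u}} [C.Over (Spec (CommRingCat.of k))]
  [IsProper (C ↘ Spec (CommRingCat.of k))] [Smooth (C ↘ Spec (CommRingCat.of k))] [ConnectedSpace C]
  (hdim : topologicalKrullDim C = 1)
  {g : ℕ} (hg : 2 ≤ g) (hgen : Curv2.genus k C = g) (κ : C ⟶ CohB1.ProjSpace 1 k)
  (hκ : κ ≫ CohB1.ProjSpace.toSpec 1 k = C ↘ Spec (CommRingCat.of k)) [IsFinite κ] [Flat κ]
  (hκ2 : ∀ y : ↥(CohB1.ProjSpace 1 k), κ.finrank y = 2)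
  (σ : C ⟶ C) (hσp : σ ≫ (C ↘ Spec (CommRingCat.of k)) = C ↘ Spec (CommRingCat.of k))
  (y : Spec (CommRingCat.of k) ⟶ C) (hy : y ≫ (C ↘ Spec (CommRingCat.of k)) = 𝟙 (Spec (CommRingCat.of k)))

/-- The horizontal fibre. -/
abbrev hor : C ⟶ sq k C := gr ((C ↘ Spec (CommRingCat.of k)) ≫ y) (const_over y hy)

include hdim in
theorem hor_ideal : Nonempty (ClSub.idealMod (hor y hy).ker ≅
    pb (pullback.snd (C ↘ Spec (CommRingCat.of k)) (C ↘ Spec (CommRingCat.of k))) (ClSub.idealMod y.ker)) := by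
  haveI : IsClosedImmersion y := by
    haveI : IsClosedImmersion (y ≫ (C ↘ Spec (CommRingCat.of k))) := by rw [hy]; infer_instance
    exact IsClosedImmersion.of_comp y (C ↘ Spec (CommRingCat.of k))
  let q := pullback.snd (C ↘ Spec (CommRingCat.of k)) (C ↘ Spec (CommRingCat.of k))
  have hsq : IsPullback (hor y hy) (C ↘ Spec (CommRingCat.of k)) q y := by
    refine IsPullback.of_right ?_ (gr_snd _ _) (IsPullback.of_hasPullback _ _)
    rw [gr_fst, hy]
    exact IsPullback.of_horiz_isIso ⟨by simp⟩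
  haveI := isClosedImmersion_gr ((C ↘ Spec (CommRingCat.of k)) ≫ y) (const_over y hy)
  haveI : Flat q := MorphismProperty.of_isPullback (P := @Flat) (IsPullback.of_hasPullback _ _) inferInstance
  have hker : y.ker.comap q = (hor y hy).ker := by
    rw [← Scheme.IdealSheafData.ker_fst_of_isClosedImmersion y q, ← hsq.isoPullback_inv_fst,
      Scheme.Hom.ker_comp_of_isIso]
  haveI := SurfNumLib.isIso_toComap_flat q y.ker
  exact ⟨eqToIso (by rw [hker]) ≪≫ (asIso (PicH1Lib.toComap q y.ker)).symm⟩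

include hdim hy in
theorem deg_hor_ideal (τ : C ⟶ C) (hτp : τ ≫ (C ↘ Spec (CommRingCat.of k)) = C ↘ Spec (CommRingCat.of k))
    [IsIso τ] : Curv2.deg k C (pb (hor y hy) (ClSub.idealMod (gr τ hτp).ker)) 1 = -1 := by
  haveI := proper_sq (k := k) (C := C)
  haveI := integral k C
  have hI := ideal_inv τ hτp hdim
  have hF := ideal_inv ((C ↘ Spec (CommRingCat.of k)) ≫ y) (const_over y hy) hdim
  have a := pr_ideal_gr τ hτp hdim hF
  have b := pr_ideal_gr ((C ↘ Spec (CommRingCat.of k)) ≫ y) (const_over y hy) hdim hI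
  rw [HodgeIdxLib.pr_comm] at b
  obtain ⟨e⟩ := hor_ideal hdim y hy
  obtain ⟨hyI, hyd⟩ := deg_point hdim y hy
  rw [CurvLib.deg_congr (k := k) ((Scheme.Modules.pullback (gr τ hτp)).mapIso e ≪≫
    (Scheme.Modules.pullbackComp (gr τ hτp) (pullback.snd _ _)).app _ ≪≫
    (Scheme.Modules.pullbackCongr (gr_snd τ hτp)).app _), deg_pb_iso hdim τ hτp hyI, hyd] at a
  have := b.symm.trans a
  linarith

include hdim hκ hκ2 hy in
theorem deg_hor_B1 : Curv2.deg k C (pb (hor y hy) (B1 κ)) 1 = 2 := by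
  obtain ⟨hL, hd, -⟩ := pencil (k := k) hdim κ hκ hκ2
  obtain ⟨t⟩ := SurfNumLib.trivial_spec_field (AmpleDevLib.isInvertible_pb y hL)
  rw [CurvLib.deg_congr (k := k) (pbBox ((C ↘ Spec (CommRingCat.of k)) ≫ y) (const_over y hy) (Lκ κ) (Lκ κ) ≪≫
    HilbPolyLib.congrRight _ (((Scheme.Modules.pullbackComp (C ↘ Spec (CommRingCat.of k)) y).app _).symm ≪≫
      (Scheme.Modules.pullback (C ↘ Spec (CommRingCat.of k))).mapIso t ≪≫ KFlatLib.pullUnitIso _) ≪≫
    HilbPolyLib.swapIso _ _ ≪≫ HilbPolyLib.unitLeft _), hd]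

include hdim hκ hκ2 hy in
theorem mem_Wc {i : Fin 2} (hyi : ∀ p, y p ∈ Uc κ i) {x : C} (hx : x ∈ Uc κ i) :
    x ∈ hor y hy ⁻¹ᵁ Wc κ i := by
  refine ⟨?_, ?_⟩
  · show (hor y hy ≫ pullback.fst _ _) x ∈ Uc κ i
    rw [gr_fst]; exact hx
  · show (hor y hy ≫ pullback.snd _ _) x ∈ Uc κ i
    rw [gr_snd]; exact hyi _

include hdim hκ hκ2 hy in
theorem exists_chart_point : ∃ i, (∀ p, y p ∈ Uc κ i) ∧ ((hor y hy ⁻¹ᵁ Wc κ i : C.Opens) : Set C).Nonempty := by
  obtain ⟨i, hi⟩ := exists_mem_Uc κ (y (IsLocalRing.closedPoint k))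
  have hyi : ∀ p, y p ∈ Uc κ i := fun p => by
    rwa [show p = IsLocalRing.closedPoint k from Subsingleton.elim (α := PrimeSpectrum k) _ _]
  exact ⟨i, hyi, _, mem_Wc hdim κ hκ hκ2 y hy hyi hi⟩

include hdim hκ hκ2 hy in
theorem pb_ι_ne_zero : (Scheme.Modules.pullback (hor y hy)).map (ClSub.idealModι (Jd κ)) ≠ 0 := by
  intro h0
  obtain ⟨i, hyi, hne⟩ := exists_chart_point hdim κ hκ hκ2 y hy
  have hB := B1_inv (k := k) hdim κ hκ hκ2
  obtain ⟨t, ht⟩ := IntMultLib.exists_section (Jd κ) ⟨Wc κ i, isAffineOpen_Wc κ i⟩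
    (zero_ideal κ hB i ▸ Ideal.mem_span_singleton_self (cW κ i))
  have h := KFlatLib.puSec_natural (hor y hy) (ClSub.idealModι (Jd κ)) t
  rw [h0] at h
  have h' := congrArg ((KFlatLib.pullUnitIso (hor y hy)).hom.app (hor y hy ⁻¹ᵁ Wc κ i)) h
  rw [CohCmpLib.pullUnitIso_puSec, ht] at h'
  refine cW_ne_zero hdim κ hκ hκ2 y hy hyi hne le_rfl ?_
  rw [← Scheme.Hom.app_eq_appLE]
  exact h'.symm.trans (map_zero ((KFlatLib.pullUnitIso (hor y hy)).hom.app (hor y hy ⁻¹ᵁ Wc κ i)).hom)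

include hdim hg hgen hκ hκ2 in
theorem diag_add_graph (h2 : (2 : k) ≠ 0) (hσ : σ ≫ κ = κ) (hσ1 : σ ≠ 𝟙 C)
    {N : (sq k C).Modules} (hNinv : ClSub.IsInverseOf N (ClSub.idealMod (gr σ hσp).ker))
    {ND : (sq k C).Modules} (hNDinv : ClSub.IsInverseOf ND (ClSub.idealMod (gr (k := k) (𝟙 C) id_over).ker)) :
    Nonempty (CohB1.tensorMod ND N ≅ B1 κ) := by
  haveI := integral k C
  haveI := proper_sq (k := k) (C := C)
  haveI := (integral_sq (k := k) hdim).1
  haveI := CurvLib.isNoetherian k (X := sq k C)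
  haveI := CurvLib.isNoetherian k (X := C)
  haveI : IsIso σ := ⟨σ, invol_sq hdim hg hgen κ hκ hκ2 h2 hσ hσ1, invol_sq hdim hg hgen κ hκ hκ2 h2 hσ hσ1⟩
  let P := sq k C
  let IΔ := (gr (k := k) (𝟙 C) id_over).ker
  let IΓ := (gr σ hσp).ker
  have hIΔ := ideal_inv (𝟙 C) (id_over (k := k)) hdim
  have hIΓ := ideal_inv σ hσp hdim
  obtain ⟨eM⟩ := SurfNumLib.nonempty_idealMod_mul (effCartier hdim (𝟙 C) (id_over (k := k))) (effCartier hdim σ hσp)
  have hM : PicF.IsInvertible (ClSub.idealMod (IΔ * IΓ)) :=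
    HilbPolyLib.isInvertible_of_iso eM (HilbPolyLib.isInvertible_tensor hIΔ hIΓ)
  have hB := B1_inv (k := k) hdim κ hκ hκ2
  obtain ⟨v, hv⟩ := exists_incl (Jd_le_mul hdim κ hκ hκ2 σ hσp hσ hσ1)
  -- a point for nonvanishing
  obtain ⟨c0, -, hc0⟩ := IsClosed.exists_closed_singleton (isClosed_univ (X := C)) ⟨genericPoint C, trivial⟩
  let y0 : Spec (CommRingCat.of k) ⟶ C := pointOfClosedPoint (C ↘ Spec (CommRingCat.of k)) c0 hc0
  have hs : dhom (k := k) κ ≠ 0 := fun h => by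
    obtain ⟨i, hyi, hne⟩ := exists_chart_point hdim κ hκ hκ2 y0 (pointOfClosedPoint_comp _ _ _)
    refine cW_ne_zero hdim κ hκ hκ2 y0 (pointOfClosedPoint_comp _ _ _) hyi hne le_rfl ?_
    have h1 := secOn_dhom (k := k) κ i
    rw [h] at h1
    have hc : cW (k := k) κ i = 0 := by
      refine (eW_genOn κ i (Wc κ i) le_rfl).1 ?_
      simp only [AmpleLib.res_refl, zero_smul]
      exact h1.trans rfl
    rw [hc, map_zero]
  haveI := CurvLib.mono_of_ne_zero CurvLib.isInvertible_structureModule hB hs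
  have hJe := AmpleFinGenLib.isEffCartier_zeroScheme hB (dhom κ)
  have hJ := IntMultLib.isInvertible_idealMod _ hJe
  obtain ⟨eJ⟩ := AmpleFinGenLib.idealMod_tensor_iso hB (dhom κ)
  have key : ∀ (y : Spec (CommRingCat.of k) ⟶ C) (hy : y ≫ (C ↘ Spec (CommRingCat.of k)) = 𝟙 _),
      IsIso ((Scheme.Modules.pullback (hor y hy)).map v) := by
    intro y hy
    refine CurvLib.isIso_of_euler_le (k := k) (AmpleDevLib.isInvertible_pb _ hJ) (AmpleDevLib.isInvertible_pb _ hM) hdim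
      (fun h0 => pb_ι_ne_zero hdim κ hκ hκ2 y hy ?_) ?_
    · rw [← hv, Functor.map_comp, h0, zero_comp]
    · have d1 : Curv2.deg k C (pb (hor y hy) (ClSub.idealMod (IΔ * IΓ))) 1 = -2 := by
        rw [← CurvLib.deg_congr (k := k) ((Scheme.Modules.pullback (hor y hy)).mapIso eM),
          show Curv2.deg k C ((Scheme.Modules.pullback (hor y hy)).obj (CohB1.tensorMod _ _)) 1 = _ from
            CurvLib.deg_congr (k := k) (PicPnLib.pullTens (hor y hy) (ClSub.idealMod IΔ) (ClSub.idealMod IΓ)) 1,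
          deg_add hdim (AmpleDevLib.isInvertible_pb _ hIΔ) (AmpleDevLib.isInvertible_pb _ hIΓ),
          deg_hor_ideal hdim y hy (𝟙 C) id_over, deg_hor_ideal hdim y hy σ hσp]
        norm_num
      have d2 : Curv2.deg k C (pb (hor y hy) (ClSub.idealMod (Jd κ))) 1 = -2 := by
        rw [deg_inverse (k := k) hdim (AmpleDevLib.isInvertible_pb _ hB)
          (HilbPolyLib.swapIso _ _ ≪≫ (PicPnLib.pullTens (hor y hy) _ _).symm ≪≫
            (Scheme.Modules.pullback (hor y hy)).mapIso eJ ≪≫ KFlatLib.pullUnitIso _),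
          deg_hor_B1 hdim κ hκ hκ2 y hy]
      rw [euler_eq_deg hdim, euler_eq_deg hdim, d1, d2]
  haveI : IsIso v := by
    refine TwistLib.isIso_of_gen v fun p => ?_
    haveI : QuasiCompact (sq k C ↘ Spec (CommRingCat.of k)) := inferInstance
    obtain ⟨q, hq, hqc⟩ := IsClosed.exists_closed_singleton (isClosed_closure (s := ({p} : Set P))) ⟨p, subset_closure rfl⟩
    obtain ⟨U₁, eJ', hqU₁, heJ⟩ := TwistLib.exists_genOn hJ q
    obtain ⟨U₂, eM', hqU₂, heM⟩ := TwistLib.exists_genOn hM q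
    let U := U₁ ⊓ U₂
    let a := res (ClSub.idealMod (Jd κ)) (inf_le_left : U ≤ U₁) eJ'
    let b := res (ClSub.idealMod (IΔ * IΓ)) (inf_le_right : U ≤ U₂) eM'
    have hqU : q ∈ U := ⟨hqU₁, hqU₂⟩
    have ha : GenOn _ a := heJ.res _
    have hb : GenOn _ b := heM.res _
    obtain ⟨d, hd⟩ := (hb U le_rfl).2 (v.app U a)
    simp only [AmpleLib.res_refl] at hd
    let z : Spec (CommRingCat.of k) ⟶ P := pointOfClosedPoint (P ↘ Spec (CommRingCat.of k)) q hqc
    have hz : z ≫ pullback.fst _ _ ≫ (C ↘ Spec (CommRingCat.of k)) = 𝟙 _ := pointOfClosedPoint_comp _ _ _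
    have hy : (z ≫ pullback.snd _ _) ≫ (C ↘ Spec (CommRingCat.of k)) = 𝟙 _ := by
      rw [Category.assoc, ← pullback.condition]; exact hz
    have hzh : (z ≫ pullback.fst _ _) ≫ hor (z ≫ pullback.snd _ _) hy = z := by
      apply pullback.hom_ext
      · rw [Category.assoc, gr_fst, Category.comp_id]
      · rw [Category.assoc, gr_snd, ← Category.assoc, Category.assoc z, hz, Category.id_comp]
    let h := hor (z ≫ pullback.snd _ _) hy
    let x : C := (z ≫ pullback.fst _ _) (IsLocalRing.closedPoint k)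
    have hx : h x = q := by
      show ((z ≫ pullback.fst _ _) ≫ h) (IsLocalRing.closedPoint k) = q
      rw [hzh]; exact pointOfClosedPoint_apply _ _ _ _
    haveI := key _ hy
    have hxU : x ∈ h ⁻¹ᵁ U := by show h x ∈ U; rw [hx]; exact hqU
    have g1 : GenAt (pb h (ClSub.idealMod (IΔ * IΓ))) (W := h ⁻¹ᵁ U) (puSec h (v.app U a)) hxU := by
      rw [← KFlatLib.puSec_natural h v a]
      exact (TwistLib.genAt_app_iso (asIso ((Scheme.Modules.pullback h).map v)) _ hxU).2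
        (TwistLib.GenAt.puSec h (ha.genAt (show h x ∈ U from hxU)))
    rw [← hd, KFlatLib.puSec_smul,
      AmpleLib.genAt_smul_iff _ _ hxU (TwistLib.GenAt.puSec h (hb.genAt (show h x ∈ U from hxU))),
      ← Scheme.preimage_basicOpen] at g1
    have hqd : q ∈ P.basicOpen d := hx ▸ g1
    have hpd : p ∈ P.basicOpen d := (specializes_iff_mem_closure.2 hq).mem_open (P.basicOpen d).isOpen hqd
    have hpU : p ∈ U := P.basicOpen_le d hpd
    refine ⟨U, hpU, a, ha.genAt hpU, ?_⟩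
    rw [← hd, AmpleLib.genAt_smul_iff _ _ hpU (hb.genAt hpU)]
    exact hpd
  obtain ⟨eN⟩ := hNinv
  obtain ⟨eD⟩ := hNDinv
  let E := eM ≪≫ (asIso v).symm
  exact ⟨(HilbPolyLib.swapIso _ _ ≪≫ HilbPolyLib.unitLeft _).symm ≪≫
    HilbPolyLib.congrRight _ (eJ.symm ≪≫ HilbPolyLib.congrLeft E.symm _) ≪≫ (HilbPolyLib.assocIso _ _ _).symm ≪≫
    HilbPolyLib.congrLeft (middle ND N _ _ ≪≫ HilbPolyLib.congrLeft eD _ ≪≫ HilbPolyLib.unitLeft _ ≪≫ eN) _ ≪≫
    HilbPolyLib.unitLeft _⟩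

end HypSqLib
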