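import Groth.Agent.HypSqLib.Box
import Groth.Agent.ConormalSecLib.Split
import Groth.Agent.CurveDualLib.BaseChange
import Groth.Agent.SurfNumLib.Config
import Groth.Agent.SurfNumLib.Eff
import Groth.Agent.ProjFormLib.Proj
import Groth.Agent.HodgeIdxLib.Index

/-! Graphs of automorphisms on the square of a curve. -/

set_option autoImplicit false
set_option linter.style.haveILetI false
set_option linter.unusedSectionVars false

universe u

open CategoryTheory CategoryTheory.Limits AlgebraicGeometry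
open KFlatLib (pb)

noncomputable section

namespace HypSqLib

attribute [local instance] overSq

variable {k : Type u} [Field k] [IsAlgClosed k] {C : Scheme.{u}} [C.Over (Spec (CommRingCat.of k))]
  [IsProper (C ↘ Spec (CommRingCat.of k))] [Smooth (C ↘ Spec (CommRingCat.of k))] [ConnectedSpace C]
  (σ : C ⟶ C) (hσp : σ ≫ (C ↘ Spec (CommRingCat.of k)) = C ↘ Spec (CommRingCat.of k))

/-- The graph. -/
abbrev gr : C ⟶ sq k C :=
  pullback.lift (𝟙 C) σ ((Category.id_comp (C ↘ Spec (CommRingCat.of k))).trans hσp.symm)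

theorem gr_fst : gr σ hσp ≫ pullback.fst _ _ = 𝟙 C := pullback.lift_fst _ _ _

theorem gr_snd : gr σ hσp ≫ pullback.snd _ _ = σ := pullback.lift_snd _ _ _

theorem isClosedImmersion_gr : IsClosedImmersion (gr σ hσp) := by
  haveI : IsClosedImmersion (gr σ hσp ≫ pullback.fst _ _) := by rw [gr_fst]; infer_instance
  exact IsClosedImmersion.of_comp (gr σ hσp) (pullback.fst _ _)

theorem gr_over : gr σ hσp ≫ (sq k C ↘ Spec (CommRingCat.of k)) = C ↘ Spec (CommRingCat.of k) := by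
  show gr σ hσp ≫ pullback.fst _ _ ≫ (C ↘ Spec (CommRingCat.of k)) = _
  rw [← Category.assoc, gr_fst, Category.id_comp]

variable (hdim : topologicalKrullDim C = 1)

include hdim in
theorem ideal_inv : PicF.IsInvertible (ClSub.idealMod (gr σ hσp).ker) := by
  haveI := integral k C
  haveI := proper_sq (k := k) (C := C)
  haveI := smooth_sq (k := k) (C := C)
  obtain ⟨hint, hd2⟩ := integral_sq (k := k) hdim
  haveI := hint
  haveI := CurvLib.isNoetherian k (X := sq k C)
  haveI := isClosedImmersion_gr σ hσp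
  haveI : IsIntegral (gr σ hσp).ker.subscheme := IsIntegral.of_isIso (gr σ hσp).toImage
  have hd : topologicalKrullDim ((gr σ hσp).ker.support : Set (sq k C)) = 1 := by
    rw [Scheme.Hom.support_ker, (gr σ hσp).isClosedEmbedding.isClosed_range.closure_eq, ← hdim]
    exact ((gr σ hσp).isEmbedding.toHomeomorph.isHomeomorph.topologicalKrullDim_eq).symm
  exact IntMultLib.isInvertible_idealMod _ (SurfNumLib.isEffCartier_curve k hd2
    (WeilExtLib.isRegular_stalk_smooth (sq k C ↘ Spec (CommRingCat.of k))) _ hd)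

variable {g : ℕ} (hg : 2 ≤ g) (hgen : Curv2.genus k C = g) (κ : C ⟶ CohB1.ProjSpace 1 k)
  (hκ : κ ≫ CohB1.ProjSpace.toSpec 1 k = C ↘ Spec (CommRingCat.of k)) [IsFinite κ] [Flat κ]
  (hκ2 : ∀ y : ↥(CohB1.ProjSpace 1 k), κ.finrank y = 2)

include hdim hg hgen hκ hκ2 in
/-- The conormal bundle of the graph is the canonical bundle. -/
theorem pb_ideal (hσ : σ ≫ κ = κ) :
    Nonempty (pb (gr σ hσp) (ClSub.idealMod (gr σ hσp).ker) ≅ CohB1.tensorPow (Lκ κ) (g - 1)) := by
  haveI := isClosedImmersion_gr σ hσp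
  obtain ⟨e1⟩ := ConormalSecLib.nonempty_conormal_iso (gr σ hσp) (pullback.fst _ _) (gr_fst σ hσp)
    (OmegaAffLib.isUniversal_dOmega (f := pullback.fst (C ↘ Spec (CommRingCat.of k)) (C ↘ Spec (CommRingCat.of k))))
  obtain ⟨e2⟩ := CurveDualLib.nonempty_omega_pullback (C ↘ Spec (CommRingCat.of k)) (C ↘ Spec (CommRingCat.of k))
    (pullback.snd _ _) (pullback.fst _ _)
    (IsPullback.of_hasPullback (C ↘ Spec (CommRingCat.of k)) (C ↘ Spec (CommRingCat.of k))).flip
  obtain ⟨e3⟩ := omega_iso (k := k) hdim hg hgen κ hκ hκ2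
  obtain ⟨e4⟩ := pb_Lpow κ hσ (g - 1)
  exact ⟨e1 ≪≫ (Scheme.Modules.pullback (gr σ hσp)).mapIso e2.symm ≪≫
    (Scheme.Modules.pullbackComp (gr σ hσp) (pullback.snd _ _)).app _ ≪≫
    (Scheme.Modules.pullbackCongr (gr_snd σ hσp)).app _ ≪≫ (Scheme.Modules.pullback σ).mapIso e3 ≪≫ e4⟩

variable (N : (sq k C).Modules) (hN : PicF.IsInvertible N)
  (hNinv : ClSub.IsInverseOf N (ClSub.idealMod (gr σ hσp).ker))

include hdim hg hgen hκ hκ2 hN hNinv in
theorem pb_N (hσ : σ ≫ κ = κ) :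
    Nonempty (CohB1.tensorMod (pb (gr σ hσp) N) (CohB1.tensorPow (Lκ κ) (g - 1)) ≅ Coh.structureModule C) := by
  obtain ⟨e⟩ := hNinv
  obtain ⟨e1⟩ := pb_ideal σ hσp hdim hg hgen κ hκ hκ2 hσ
  exact ⟨HilbPolyLib.congrRight _ e1.symm ≪≫ (PicPnLib.pullTens (gr σ hσp) _ _).symm ≪≫
    (Scheme.Modules.pullback (gr σ hσp)).mapIso e ≪≫ KFlatLib.pullUnitIso _⟩

include hdim hg hgen hκ hκ2 hN hNinv in
theorem deg_pb_N (hσ : σ ≫ κ = κ) :
    Curv2.deg k C (pb (gr σ hσp) N) 1 = 2 - 2 * (g : ℤ) := by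
  obtain ⟨e⟩ := pb_N σ hσp hdim hg hgen κ hκ hκ2 N hN hNinv hσ
  have h := deg_inverse (k := k) hdim (pow_inv hdim κ hκ hκ2 (g - 1)) (HilbPolyLib.swapIso _ _ ≪≫ e)
  rw [h, deg_Lpow hdim κ hκ hκ2]
  omega

include hdim in
/-- Intersecting with a graph is taking degrees along it. -/
theorem pr_ideal_gr {T : (sq k C).Modules} (hT : PicF.IsInvertible T) :
    HodgeIdxLib.pr k (ClSub.idealMod (gr σ hσp).ker) T = -Curv2.deg k C (pb (gr σ hσp) T) 1 := by
  haveI := integral k C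
  haveI := proper_sq (k := k) (C := C)
  obtain ⟨hint, hd2⟩ := integral_sq (k := k) hdim
  haveI := hint
  haveI := isClosedImmersion_gr σ hσp
  haveI := CurvLib.isNoetherian k (X := sq k C)
  haveI := CurvLib.isNoetherian k (X := C)
  have hI := ideal_inv σ hσp hdim
  rw [SurfNumLib.pr_ideal _ (CurvLib.isCoh_of_isInvertible hI) hT,
    IntFunLib.N_congr [T] (SurfNumLib.quotMod_ker_iso (gr σ hσp)).some,
    ← IntFunLib.N_push (k := k) (g := gr σ hσp) (gr_over σ hσp) (l := [T]) (by simpa using hT)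
      (DevissLib.isCoh_structureModule C) ((topologicalKrullDim_subspace_le _ _).trans (by rw [hdim]; simp))]
  change -IntFunLib.N k [pb (gr σ hσp) T] (Coh.structureModule C) = _
  rw [← IntFunLib.euler_sub_eq_N, Curv2.deg]
  simp

include hdim hN hNinv in
theorem pr_N {T : (sq k C).Modules} (hT : PicF.IsInvertible T) :
    HodgeIdxLib.pr k N T = Curv2.deg k C (pb (gr σ hσp) T) 1 := by
  haveI := proper_sq (k := k) (C := C)
  obtain ⟨hint, hd2⟩ := integral_sq (k := k) hdim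
  haveI := hint
  obtain ⟨e⟩ := hNinv
  rw [HodgeIdxLib.pr_inverse hd2.le (ideal_inv σ hσp hdim) hN hT (HilbPolyLib.swapIso _ _ ≪≫ e),
    pr_ideal_gr σ hσp hdim hT, neg_neg]

include hdim in
/-- The sequence of the graph, twisted. -/
theorem exists_seq {T T' : (sq k C).Modules} (hT : PicF.IsInvertible T)
    (e : CohB1.tensorMod T (ClSub.idealMod (gr σ hσp).ker) ≅ T') :
    ∃ S : ShortComplex (sq k C).Modules, S.ShortExact ∧ Coh.IsCoh S.X₁ ∧ Coh.IsCoh S.X₂ ∧ Coh.IsCoh S.X₃ ∧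
      (∀ n, Module.finrank k (Coh.HH (sq k C) S.X₁ n) = Module.finrank k (Coh.HH (sq k C) T' n)) ∧
      (∀ n, Module.finrank k (Coh.HH (sq k C) S.X₂ n) = Module.finrank k (Coh.HH (sq k C) T n)) ∧
      ∀ n, Module.finrank k (Coh.HH (sq k C) S.X₃ n) = Module.finrank k (Coh.HH C (pb (gr σ hσp) T) n) := by
  haveI := proper_sq (k := k) (C := C)
  haveI := CurvLib.isNoetherian k (X := sq k C)
  haveI := CurvLib.isNoetherian k (X := C)
  haveI := isClosedImmersion_gr σ hσp
  let ι := gr σ hσp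
  have hTι := AmpleDevLib.isInvertible_pb ι hT
  haveI : Coh.IsQCoh (pb ι T) := (CurvLib.isCoh_of_isInvertible hTι).1
  let pr := @asIso _ _ _ _ (ProjFormLib.projApp ι T (Coh.structureModule C))
    (ProjFormLib.isIso_projApp ι (CurveVBLib.isFinLocFree_of_rank (CurvLib.locFree_of_isInvertible hT)) _)
  let e3 : CohB1.tensorMod T (ClSub.quotMod ι.ker) ≅ (Coh.push ι).obj (pb ι T) :=
    HilbPolyLib.congrRight T (SurfNumLib.quotMod_ker_iso ι).some ≪≫ pr ≪≫
      (Coh.push ι).mapIso (HilbPolyLib.swapIso _ _ ≪≫ HilbPolyLib.unitLeft _)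
  let e2 : CohB1.tensorMod T (Coh.structureModule (sq k C)) ≅ T := HilbPolyLib.swapIso _ _ ≪≫ HilbPolyLib.unitLeft _
  refine ⟨(CurvLib.idealSeq ι.ker).map (CurvLib.tensorLeft' T),
    HilbPolyLib.shortExact_tensor hT (CurvLib.idealSeq_shortExact _),
    HilbPolyLib.isCoh_tensor hT (CurvLib.isCoh_of_isInvertible (ideal_inv σ hσp hdim)),
    HilbPolyLib.isCoh_tensor hT (DevissLib.isCoh_structureModule _),
    HilbPolyLib.isCoh_tensor hT (CurvLib.isCoh_quotMod _), fun n => (CurvLib.hIso (k := k) e n).finrank_eq,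
    fun n => (CurvLib.hIso (k := k) e2 n).finrank_eq,
    fun n => (CurvLib.hIso (k := k) e3 n).finrank_eq.trans ?_⟩
  exact ((PushLinLib.euler_push k ι (gr_over σ hσp) (pb ι T)).1 n).symm

end HypSqLib
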