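import Groth.Agent.HypSqLib.Chart
import Groth.Agent.SurfNumLib.Eff

/-! The alternating section does not vanish on horizontal fibres. -/

set_option autoImplicit false
set_option linter.style.haveILetI false
set_option linter.unusedSectionVars false

universe u

open CategoryTheory CategoryTheory.Limits AlgebraicGeometry TopologicalSpace Opposite
open KFlatLib (pb puSecLE)
open AmpleLib (GenOn GenAt res)
open RpushLib (secFun)
open CohBCLib (secA)

noncomputable section

namespace HypSqLib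

attribute [local instance] overSq

variable {k : Type u} [Field k] [IsAlgClosed k] {C : Scheme.{u}} [C.Over (Spec (CommRingCat.of k))]
  [IsProper (C ↘ Spec (CommRingCat.of k))] [Smooth (C ↘ Spec (CommRingCat.of k))] [ConnectedSpace C]
  (hdim : topologicalKrullDim C = 1) (κ : C ⟶ CohB1.ProjSpace 1 k)
  (hκ : κ ≫ CohB1.ProjSpace.toSpec 1 k = C ↘ Spec (CommRingCat.of k)) [IsFinite κ] [Flat κ]
  (hκ2 : ∀ y : ↥(CohB1.ProjSpace 1 k), κ.finrank y = 2)

theorem secA_res {V W : C.Opens} (h : W ≤ V) (r : k) :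
    C.presheaf.map (homOfLE h).op (secA (C ↘ Spec (CommRingCat.of k)) V r) = secA (C ↘ Spec (CommRingCat.of k)) W r := by
  exact congr($(Scheme.Hom.appLE_map (C ↘ Spec (CommRingCat.of k)) le_top (homOfLE h).op)
    ((Scheme.ΓSpecIso (CommRingCat.of k)).inv r))

theorem res_eq_zero [IsIntegral C] {M : C.Modules} (hM : PicF.IsInvertible M) {V : C.Opens} (hV : (V : Set C).Nonempty)
    {a : Γ(M, ⊤)} (h : res M (le_top : V ≤ ⊤) a = 0) : a = 0 := by
  by_contra ha
  haveI := CurvLib.mono_of_ne_zero CurvLib.isInvertible_structureModule hM (RRVanLib.unitHom_ne_zero ha)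
  haveI : Nonempty V := hV.to_subtype
  haveI : Nontrivial Γ(C, V) := inferInstance
  refine one_ne_zero (α := Γ(C, V)) (QCohLib.app_injective_of_mono (QCohLib.unitHom M a) V ?_)
  refine Eq.trans ?_ (map_zero ((QCohLib.unitHom M a).app V).hom).symm
  rw [QCohLib.unitHom_app, one_smul]
  exact h

include hdim hκ hκ2 in
/-- The two basic sections of the pencil are independent. -/
theorem no_relation {i j : Fin 2} (hij : i ≠ j) {V : C.Opens} (hV : (V : Set C).Nonempty) (c : k) :
    res (Lκ κ) (le_top : V ≤ ⊤) (Asec κ j) ≠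
      secA (C ↘ Spec (CommRingCat.of k)) V c • res (Lκ κ) (le_top : V ≤ ⊤) (Asec κ i) := by
  intro h
  haveI := integral k C
  obtain ⟨hL, hd, -⟩ := pencil (k := k) hdim κ hκ hκ2
  let R := secA (C ↘ Spec (CommRingCat.of k))
  have hA : Asec κ j = R ⊤ c • Asec κ i := by
    refine sub_eq_zero.1 (res_eq_zero hL hV ?_)
    rw [show ∀ a b : Γ(Lκ κ, ⊤), res (Lκ κ) (le_top : V ≤ ⊤) (a - b) = res (Lκ κ) le_top a - res (Lκ κ) le_top b from
      fun a b => map_sub _ a b, AmpleLib.res_smul, secA_res, h, sub_self]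
  have hgen : ∀ x : C, ∃ (U : C.Opens) (hx : x ∈ U), GenAt (Lκ κ) (res (Lκ κ) (le_top : U ≤ ⊤) (Asec κ i)) hx := by
    intro x
    obtain ⟨l, hl⟩ := exists_mem_Uc κ x
    by_cases hli : l = i
    · subst hli
      exact ⟨Uc κ l, hl, (agen_genOn κ l).genAt hl⟩
    · have hlj : l = j := by omega
      subst hlj
      refine ⟨Uc κ l, hl, ?_⟩
      have hr : R (Uc κ l) c * tco κ l i = 1 := by
        refine (agen_genOn κ l (Uc κ l) le_rfl).1 ?_
        simp only [AmpleLib.res_refl]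
        rw [mul_smul, tco_spec, one_smul, agen, hA, AmpleLib.res_smul, secA_res]
      rw [← tco_spec κ l i, AmpleLib.genAt_smul_iff _ _ hl ((agen_genOn κ l).genAt hl)]
      exact (show C.basicOpen (tco κ l i) = Uc κ l from C.basicOpen_of_isUnit (IsUnit.of_mul_eq_one_right _ hr)).symm ▸ hl
  have key : IsIso (QCohLib.unitHom (Lκ κ) (Asec κ i)) := by
    refine TwistLib.isIso_of_gen _ fun x => ?_
    obtain ⟨U, hx, hU⟩ := hgen x
    refine ⟨U, hx, (1 : Γ(C, U)), (AmpleLib.one_genOn U).genAt hx, ?_⟩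
    rw [QCohLib.unitHom_app, one_smul]
    exact hU
  haveI := key
  rw [← CurvLib.deg_congr (k := k) (asIso (QCohLib.unitHom (Lκ κ) (Asec κ i))) 1, deg_unit] at hd
  norm_num at hd

variable (y : Spec (CommRingCat.of k) ⟶ C) (hy : y ≫ (C ↘ Spec (CommRingCat.of k)) = 𝟙 (Spec (CommRingCat.of k)))

include hy in
theorem const_over : ((C ↘ Spec (CommRingCat.of k)) ≫ y) ≫ (C ↘ Spec (CommRingCat.of k)) = C ↘ Spec (CommRingCat.of k) := by
  rw [Category.assoc, hy, Category.comp_id]

theorem const_value {U V : C.Opens} (hU : ⊤ ≤ y ⁻¹ᵁ U) (h : V ≤ ((C ↘ Spec (CommRingCat.of k)) ≫ y) ⁻¹ᵁ U)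
    (t : Γ(C, U)) : ((C ↘ Spec (CommRingCat.of k)) ≫ y).appLE U V h t =
      secA (C ↘ Spec (CommRingCat.of k)) V ((Scheme.ΓSpecIso (CommRingCat.of k)).hom (y.appLE U ⊤ hU t)) := by
  rw [← Scheme.Hom.appLE_comp_appLE (C ↘ Spec (CommRingCat.of k)) y U ⊤ V hU le_top]
  show _ = (C ↘ Spec (CommRingCat.of k)).appLE ⊤ V le_top _
  rw [ConcreteCategory.comp_apply]
  congr 1
  exact (congr($((Scheme.ΓSpecIso (CommRingCat.of k)).hom_inv_id) (y.appLE U ⊤ hU t))).symm

include hdim hκ hκ2 hy in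
/-- The alternating section does not vanish on a horizontal fibre. -/
theorem cW_ne_zero {i : Fin 2} (hyi : ∀ p, y p ∈ Uc κ i) {V : C.Opens} (hVne : (V : Set C).Nonempty)
    (hV : V ≤ gr ((C ↘ Spec (CommRingCat.of k)) ≫ y) (const_over y hy) ⁻¹ᵁ Wc κ i) :
    (gr ((C ↘ Spec (CommRingCat.of k)) ≫ y) (const_over y hy)).appLE (Wc κ i) V hV (cW κ i) ≠ 0 := by
  intro h0
  let τ := (C ↘ Spec (CommRingCat.of k)) ≫ y
  have hU : (⊤ : (Spec (CommRingCat.of k)).Opens) ≤ y ⁻¹ᵁ Uc κ i := fun p _ => hyi p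
  have hVU : V ≤ Uc κ i := le_Uc_left κ τ (const_over y hy) hV
  rw [gr_cW, const_value y hU, const_value y hU] at h0
  let R := secA (C ↘ Spec (CommRingCat.of k))
  let lam := fun j => (Scheme.ΓSpecIso (CommRingCat.of k)).hom (y.appLE (Uc κ i) ⊤ hU (tco κ i j))
  let t := fun j => C.presheaf.map (homOfLE hVU).op (tco κ i j)
  change t 1 * R V (lam 0) - t 0 * R V (lam 1) = 0 at h0
  have hres : ∀ j, t j • res (Lκ κ) (le_top : V ≤ ⊤) (Asec κ i) = res (Lκ κ) le_top (Asec κ j) := fun j => by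
    have := congrArg (res (Lκ κ) hVU) (tco_spec κ i j)
    rw [AmpleLib.res_smul, agen, AmpleLib.res_res, AmpleLib.res_res] at this
    exact this
  have hti : t i = 1 := by simp [t, tco_self]
  have hli : lam i = 1 := by simp [lam, tco_self]
  fin_cases i
  · refine no_relation hdim κ hκ hκ2 (i := 0) (j := 1) (by decide) hVne (lam 1) ?_
    rw [← hres 1]
    congr 1
    have e0 : t 0 = 1 := hti
    have l0 : lam 0 = 1 := hli
    rw [e0, l0, map_one, mul_one, one_mul, sub_eq_zero] at h0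
    exact h0
  · refine no_relation hdim κ hκ hκ2 (i := 1) (j := 0) (by decide) hVne (lam 0) ?_
    rw [← hres 0]
    congr 1
    have e0 : t 1 = 1 := hti
    have l0 : lam 1 = 1 := hli
    rw [e0, l0, map_one, mul_one, one_mul, sub_eq_zero] at h0
    exact h0.symm

end HypSqLib
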