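import Groth.Agent.HypSqLib.Graph
import Groth.Agent.IntMultLib.Asymp

/-! The classes `F_m + r Γ_σ` on the square of a hyperelliptic curve. -/

set_option autoImplicit false
set_option linter.style.haveILetI false
set_option linter.unusedSectionVars false

universe u

open CategoryTheory CategoryTheory.Limits AlgebraicGeometry
open KFlatLib (pb)
open HilbPolyLib (congrLeft congrRight assocIso swapIso unitLeft)

noncomputable section

namespace HypSqLib

attribute [local instance] overSq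

variable {k : Type u} [Field k] [IsAlgClosed k] {C : Scheme.{u}} [C.Over (Spec (CommRingCat.of k))]
  [IsProper (C ↘ Spec (CommRingCat.of k))] [Smooth (C ↘ Spec (CommRingCat.of k))] [ConnectedSpace C]
  (hdim : topologicalKrullDim C = 1)
  {g : ℕ} (hg : 2 ≤ g) (hgen : Curv2.genus k C = g) (κ : C ⟶ CohB1.ProjSpace 1 k)
  (hκ : κ ≫ CohB1.ProjSpace.toSpec 1 k = C ↘ Spec (CommRingCat.of k)) [IsFinite κ] [Flat κ]
  (hκ2 : ∀ y : ↥(CohB1.ProjSpace 1 k), κ.finrank y = 2)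
  (σ : C ⟶ C) (hσp : σ ≫ (C ↘ Spec (CommRingCat.of k)) = C ↘ Spec (CommRingCat.of k))
  (N : (sq k C).Modules) (hN : PicF.IsInvertible N)
  (hNinv : ClSub.IsInverseOf N (ClSub.idealMod (gr σ hσp).ker))

/-- `F_m`. -/
abbrev Fm (m : ℕ) : (sq k C).Modules := box (CohB1.tensorPow (Lκ κ) m) (CohB1.tensorPow (Lκ κ) m)

/-- `B + r Γ`. -/
abbrev Tw (B : (sq k C).Modules) (r : ℕ) : (sq k C).Modules := CohB1.tensorMod B (CohB1.tensorPow N r)

variable {B : (sq k C).Modules} (hB : PicF.IsInvertible B)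

include hN hB in
theorem tw_inv (r : ℕ) : PicF.IsInvertible (Tw N B r) :=
  HilbPolyLib.isInvertible_tensor hB (AmpleThLib.tensorPow_isInvertible hN r)

/-- `B + 0 Γ = B`. -/
def twZero (B : (sq k C).Modules) : Tw N B 0 ≅ B := swapIso _ _ ≪≫ unitLeft _

include hNinv in
theorem tw_step (r : ℕ) :
    Nonempty (CohB1.tensorMod (Tw N B (r + 1)) (ClSub.idealMod (gr σ hσp).ker) ≅ Tw N B r) := by
  obtain ⟨e⟩ := hNinv
  exact ⟨assocIso B _ _ ≪≫ congrRight B (assocIso (CohB1.tensorPow N r) N _ ≪≫ congrRight _ e ≪≫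
    swapIso _ _ ≪≫ unitLeft _)⟩

include hdim hN hNinv hB in
/-- The sequence `B + rΓ → B + (r+1)Γ → restriction`. -/
theorem exists_tw_seq (r : ℕ) :
    ∃ S : ShortComplex (sq k C).Modules, S.ShortExact ∧ Coh.IsCoh S.X₁ ∧ Coh.IsCoh S.X₂ ∧ Coh.IsCoh S.X₃ ∧
      (∀ n, Module.finrank k (Coh.HH (sq k C) S.X₁ n) = Module.finrank k (Coh.HH (sq k C) (Tw N B r) n)) ∧
      (∀ n, Module.finrank k (Coh.HH (sq k C) S.X₂ n) = Module.finrank k (Coh.HH (sq k C) (Tw N B (r + 1)) n)) ∧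
      ∀ n, Module.finrank k (Coh.HH (sq k C) S.X₃ n) =
        Module.finrank k (Coh.HH C (pb (gr σ hσp) (Tw N B (r + 1))) n) := by
  obtain ⟨e⟩ := tw_step σ hσp N hNinv (B := B) r
  exact exists_seq σ hσp hdim (tw_inv N hN hB (r + 1)) e

include hdim hN hNinv hB in
theorem euler_step (r : ℕ) : Curv2.euler k (sq k C) (Tw N B (r + 1)) =
    Curv2.euler k (sq k C) (Tw N B r) + Curv2.euler k C (pb (gr σ hσp) (Tw N B (r + 1))) := by
  haveI := proper_sq (k := k) (C := C)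
  haveI := integral k C
  obtain ⟨S, hS, h1, h2, h3, e1, e2, e3⟩ := exists_tw_seq hdim σ hσp N hN hNinv hB r
  have h := CurvLib.euler_add_of_isCoh (k := k) hS h1 h2 h3
  have z : Module.finrank k (Coh.HH (sq k C) S.X₃ 2) = 0 := by
    haveI := CurvLib.h_vanish_of_two_le k hdim (pb (gr σ hσp) (Tw N B (r + 1))) 2 le_rfl
    rw [e3, Module.finrank_zero_of_subsingleton]
  rw [euler_three hdim, euler_three hdim, euler_three hdim, e1, e1, e1, e2, e2, e2, z, e3, e3] at h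
  rw [euler_three hdim (Tw N B (r + 1)), euler_three hdim (Tw N B r), CurvLib.euler_curve hdim]
  push_cast at h
  linarith

include hdim hN hNinv hB in
theorem h2_step {r : ℕ} (h : Module.finrank k (Coh.HH (sq k C) (Tw N B r) 2) = 0) :
    Module.finrank k (Coh.HH (sq k C) (Tw N B (r + 1)) 2) = 0 := by
  haveI := proper_sq (k := k) (C := C)
  haveI := integral k C
  obtain ⟨S, hS, h1, h2, h3, e1, e2, e3⟩ := exists_tw_seq hdim σ hσp N hN hNinv hB r
  haveI := CurvLib.h_vanish_of_two_le k hdim (pb (gr σ hσp) (Tw N B (r + 1))) 2 le_rfl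
  have := mid_le (k := k) hS h1 h2 h3 2
  rw [e1, e2, e3, h, Module.finrank_zero_of_subsingleton (M := Coh.HH C (pb (gr σ hσp) (Tw N B (r + 1))) 2)] at this
  omega

include hdim hN hNinv hB in
theorem h1_step {r : ℕ} (h : Module.finrank k (Coh.HH (sq k C) (Tw N B r) 1) = 0)
    (h' : Module.finrank k (Coh.HH C (pb (gr σ hσp) (Tw N B (r + 1))) 1) = 0) :
    Module.finrank k (Coh.HH (sq k C) (Tw N B (r + 1)) 1) = 0 := by
  haveI := proper_sq (k := k) (C := C)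
  obtain ⟨S, hS, h1, h2, h3, e1, e2, e3⟩ := exists_tw_seq hdim σ hσp N hN hNinv hB r
  have := mid_le (k := k) hS h1 h2 h3 1
  rw [e1, e2, e3, h, h'] at this
  omega

include hdim hN hNinv hB in
theorem h0_step {r : ℕ} (h : Module.finrank k (Coh.HH (sq k C) (Tw N B r) 1) = 0) :
    Module.finrank k (Coh.HH (sq k C) (Tw N B (r + 1)) 0) =
      Module.finrank k (Coh.HH (sq k C) (Tw N B r) 0) +
        Module.finrank k (Coh.HH C (pb (gr σ hσp) (Tw N B (r + 1))) 0) := by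
  haveI := proper_sq (k := k) (C := C)
  obtain ⟨S, hS, h1, h2, h3, e1, e2, e3⟩ := exists_tw_seq hdim σ hσp N hN hNinv hB r
  have := h0_add (k := k) hS h1 h2 h3 ((e1 1).trans h)
  rwa [e1, e2, e3] at this

include hdim hN hNinv hB in
theorem h0_step_eq {r : ℕ} (h : Module.finrank k (Coh.HH C (pb (gr σ hσp) (Tw N B (r + 1))) 0) = 0) :
    Module.finrank k (Coh.HH (sq k C) (Tw N B (r + 1)) 0) =
      Module.finrank k (Coh.HH (sq k C) (Tw N B r) 0) := by
  haveI := proper_sq (k := k) (C := C)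
  obtain ⟨S, hS, h1, h2, h3, e1, e2, e3⟩ := exists_tw_seq hdim σ hσp N hN hNinv hB r
  have a := mid_le (k := k) hS h1 h2 h3 0
  have b := left_le (k := k) hS h1 h2 h3
  rw [e1, e2, e3, h] at a
  rw [e1, e2] at b
  omega

variable (hσ : σ ≫ κ = κ)

include hdim hg hgen hκ hκ2 hN hNinv hσ in
theorem deg_pb_tw (hB : PicF.IsInvertible B) (r : ℕ) :
    Curv2.deg k C (pb (gr σ hσp) (Tw N B r)) 1 =
      Curv2.deg k C (pb (gr σ hσp) B) 1 - 2 * ((g : ℤ) - 1) * r := by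
  have hNι := AmpleDevLib.isInvertible_pb (gr σ hσp) hN
  obtain ⟨e⟩ := CurveDualLib.nonempty_pb_tensorPow (gr σ hσp) N r
  rw [CurvLib.deg_congr (k := k) (PicPnLib.pullTens (gr σ hσp) B _),
    deg_add hdim (AmpleDevLib.isInvertible_pb _ hB)
      (AmpleDevLib.isInvertible_pb _ (AmpleThLib.tensorPow_isInvertible hN r)),
    CurvLib.deg_congr (k := k) e, deg_pow hdim hNι, deg_pb_N σ hσp hdim hg hgen κ hκ hκ2 N hN hNinv hσ]
  ring

/-- Restriction of a box product to a graph. -/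
def pbBox (F G : C.Modules) : pb (gr σ hσp) (box F G) ≅ CohB1.tensorMod F (pb σ G) :=
  PicPnLib.pullTens _ _ _ ≪≫
    congrLeft ((Scheme.Modules.pullbackComp (gr σ hσp) (pullback.fst _ _)).app _ ≪≫
      (Scheme.Modules.pullbackCongr (gr_fst σ hσp)).app _ ≪≫ (Scheme.Modules.pullbackId C).app _) _ ≪≫
    congrRight _ ((Scheme.Modules.pullbackComp (gr σ hσp) (pullback.snd _ _)).app _ ≪≫
      (Scheme.Modules.pullbackCongr (gr_snd σ hσp)).app _)

include hσ in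
theorem pb_Fm (m : ℕ) : Nonempty (pb (gr σ hσp) (Fm κ m) ≅ CohB1.tensorPow (Lκ κ) (m + m)) := by
  obtain ⟨e⟩ := pb_Lpow κ hσ m
  obtain ⟨a⟩ := IntMultLib.nonempty_tensorPow_add (Lκ κ) m m
  exact ⟨pbBox σ hσp _ _ ≪≫ congrRight _ e ≪≫ a.symm⟩

include hdim hκ hκ2 in
theorem Fm_inv (m : ℕ) : PicF.IsInvertible (Fm (k := k) κ m) :=
  box_inv (pow_inv hdim κ hκ hκ2 m) (pow_inv hdim κ hκ hκ2 m)

include hdim hκ hκ2 hσ in
theorem deg_pb_Fm (m : ℕ) : Curv2.deg k C (pb (gr σ hσp) (Fm κ m)) 1 = 4 * m := by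
  obtain ⟨e⟩ := pb_Fm κ σ hσp hσ m
  rw [CurvLib.deg_congr (k := k) e, deg_Lpow hdim κ hκ hκ2]
  push_cast; ring

include hdim hg hgen hκ hκ2 hN hNinv hσ in
theorem pb_N_pow : ∀ r : ℕ, Nonempty (CohB1.tensorMod (CohB1.tensorPow (pb (gr σ hσp) N) r)
    (CohB1.tensorPow (Lκ κ) ((g - 1) * r)) ≅ Coh.structureModule C)
  | 0 => ⟨unitLeft _ ≪≫ eqToIso (by rw [Nat.mul_zero]; rfl)⟩
  | r + 1 => by
    obtain ⟨e⟩ := pb_N_pow r
    obtain ⟨e'⟩ := pb_N σ hσp hdim hg hgen κ hκ hκ2 N hN hNinv hσ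
    obtain ⟨a⟩ := IntMultLib.nonempty_tensorPow_add (Lκ κ) (g - 1) ((g - 1) * r)
    refine ⟨congrRight _ (eqToIso (by rw [Nat.mul_succ, Nat.add_comm]) ≪≫ a) ≪≫ assocIso _ _ _ ≪≫
      congrRight _ ((assocIso _ _ _).symm ≪≫ congrLeft e' _ ≪≫ unitLeft _) ≪≫ e⟩

include hdim hg hgen hκ hκ2 hN hNinv hσ in
theorem pb_tw_Fm {m r s : ℕ} (hs : s + (g - 1) * r = m + m) :
    Nonempty (pb (gr σ hσp) (Tw N (Fm κ m) r) ≅ CohB1.tensorPow (Lκ κ) s) := by
  obtain ⟨e⟩ := CurveDualLib.nonempty_pb_tensorPow (gr σ hσp) N r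
  obtain ⟨e1⟩ := pb_Fm κ σ hσp hσ m
  obtain ⟨a⟩ := IntMultLib.nonempty_tensorPow_add (Lκ κ) s ((g - 1) * r)
  obtain ⟨c⟩ := pb_N_pow hdim hg hgen κ hκ hκ2 σ hσp N hN hNinv hσ r
  exact ⟨PicPnLib.pullTens _ _ _ ≪≫ congrLeft (e1 ≪≫ eqToIso (by rw [hs]) ≪≫ a) _ ≪≫ congrRight _ e ≪≫
    assocIso _ _ _ ≪≫ congrRight _ (swapIso _ _ ≪≫ c) ≪≫ swapIso _ _ ≪≫ unitLeft _⟩

include hdim hg hgen hκ hκ2 in
theorem euler_Fm (m : ℕ) : Curv2.euler k (sq k C) (Fm κ m) = (2 * (m : ℤ) - ((g : ℤ) - 1)) ^ 2 := by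
  have hL := CurvLib.isCoh_of_isInvertible (pow_inv (k := k) hdim κ hκ hκ2 m)
  haveI := CurvLib.isNoetherian k (X := C)
  rw [euler_box hdim hL hL, euler_eq_deg hdim, deg_Lpow hdim κ hκ hκ2, hgen]
  ring

include hdim hg hgen hκ hκ2 hN hNinv hσ in
theorem euler_tw (m r : ℕ) : Curv2.euler k (sq k C) (Tw N (Fm κ m) r) =
    (2 * (m : ℤ) - ((g : ℤ) - 1)) ^ 2 + 4 * (m : ℤ) * r - ((g : ℤ) - 1) * r * (r + 2) := by
  have hF := Fm_inv (k := k) hdim κ hκ hκ2 m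
  induction r with
  | zero =>
    rw [CurvLib.euler_congr (k := k) (twZero N (Fm κ m)), euler_Fm hdim hg hgen κ hκ hκ2]
    simp
  | succ r ih =>
    rw [euler_step hdim σ hσp N hN hNinv hF, ih, euler_eq_deg hdim,
      deg_pb_tw hdim hg hgen κ hκ hκ2 σ hσp N hN hNinv hσ hF, deg_pb_Fm hdim κ hκ hκ2 σ hσp hσ, hgen]
    push_cast; ring

include hdim hg hgen hκ hκ2 hN hNinv hσ in
theorem tw_h2 {m : ℕ} (hm : g ≤ m) : ∀ r : ℕ,
    Module.finrank k (Coh.HH (sq k C) (Tw N (Fm κ m) r) 2) = 0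
  | 0 => by
    haveI := CurvLib.isNoetherian k (X := C)
    have hL := CurvLib.isCoh_of_isInvertible (pow_inv (k := k) hdim κ hκ hκ2 m)
    rw [(CurvLib.hIso (k := k) (twZero N (Fm κ m)) 2).finrank_eq, (hh_box (k := k) hdim hL hL).2.2]
    haveI := h1_big hdim hgen κ hκ hκ2 hm
    rw [Module.finrank_zero_of_subsingleton (M := Coh.HH C (CohB1.tensorPow (Lκ κ) m) 1)]
  | r + 1 => h2_step hdim σ hσp N hN hNinv (Fm_inv hdim κ hκ hκ2 m) (tw_h2 hm r)

include hdim hg hgen hκ hκ2 hN hNinv hσ in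
theorem tw_h1 {m : ℕ} (hm : g ≤ m) : ∀ r : ℕ, ((g : ℤ) - 1) * (r + 1) < 2 * m →
    Module.finrank k (Coh.HH (sq k C) (Tw N (Fm κ m) r) 1) = 0
  | 0, _ => by
    haveI := CurvLib.isNoetherian k (X := C)
    have hL := CurvLib.isCoh_of_isInvertible (pow_inv (k := k) hdim κ hκ hκ2 m)
    rw [(CurvLib.hIso (k := k) (twZero N (Fm κ m)) 1).finrank_eq, (hh_box (k := k) hdim hL hL).2.1]
    haveI := h1_big hdim hgen κ hκ hκ2 hm
    rw [Module.finrank_zero_of_subsingleton (M := Coh.HH C (CohB1.tensorPow (Lκ κ) m) 1)]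
    simp
  | r + 1, h => by
    push_cast at h
    have h' : ((g - 1 : ℕ) : ℤ) = (g : ℤ) - 1 := by omega
    have hle : (g - 1) * (r + 1) ≤ m + m := by
      have : (((g - 1) * (r + 1) : ℕ) : ℤ) ≤ ((m + m : ℕ) : ℤ) := by push_cast; rw [h']; nlinarith
      exact_mod_cast this
    obtain ⟨e⟩ := pb_tw_Fm hdim hg hgen κ hκ hκ2 σ hσp N hN hNinv hσ (s := m + m - (g - 1) * (r + 1))
      (Nat.sub_add_cancel hle)
    have hbig : g ≤ m + m - (g - 1) * (r + 1) := by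
      zify [hle]; rw [h']; nlinarith
    haveI := h1_big hdim hgen κ hκ hκ2 hbig
    refine h1_step hdim σ hσp N hN hNinv (Fm_inv hdim κ hκ hκ2 m) (tw_h1 hm r (by nlinarith)) ?_
    rw [(CurvLib.hIso (k := k) e 1).finrank_eq, Module.finrank_zero_of_subsingleton]

end HypSqLib

namespace HypSqLib

attribute [local instance] overSq

section Border

variable {k : Type u} [Field k] [IsAlgClosed k] {C : Scheme.{u}} [C.Over (Spec (CommRingCat.of k))]
  [IsProper (C ↘ Spec (CommRingCat.of k))] [Smooth (C ↘ Spec (CommRingCat.of k))] [ConnectedSpace C]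
  (hdim : topologicalKrullDim C = 1)
  {g : ℕ} (hg : 2 ≤ g) (hgen : Curv2.genus k C = g) (κ : C ⟶ CohB1.ProjSpace 1 k)
  (hκ : κ ≫ CohB1.ProjSpace.toSpec 1 k = C ↘ Spec (CommRingCat.of k)) [IsFinite κ] [Flat κ]
  (hκ2 : ∀ y : ↥(CohB1.ProjSpace 1 k), κ.finrank y = 2)
  (σ : C ⟶ C) (hσp : σ ≫ (C ↘ Spec (CommRingCat.of k)) = C ↘ Spec (CommRingCat.of k))
  (N : (sq k C).Modules) (hN : PicF.IsInvertible N)
  (hNinv : ClSub.IsInverseOf N (ClSub.idealMod (gr σ hσp).ker)) (hσ : σ ≫ κ = κ)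

include hdim hg hgen hκ hκ2 hN hNinv hσ in
theorem tw_h1_border {m r : ℕ} (hm : g ≤ m) (hpos : ((g : ℤ) - 1) * r < 2 * m)
    (hle : 2 * (m : ℤ) ≤ ((g : ℤ) - 1) * (r + 1)) :
    (Module.finrank k (Coh.HH (sq k C) (Tw N (Fm κ m) r) 1) : ℤ) = (g : ℤ) - (2 * (m : ℤ) - ((g : ℤ) - 1) * r) := by
  obtain _ | r := r
  · push_cast at hle; exfalso; linarith
  push_cast at hpos hle ⊢
  have hF := Fm_inv (k := k) hdim κ hκ hκ2 m
  have h' : ((g - 1 : ℕ) : ℤ) = (g : ℤ) - 1 := by omega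
  have hle' : (g - 1) * (r + 1) ≤ m + m := by
    have : (((g - 1) * (r + 1) : ℕ) : ℤ) ≤ ((m + m : ℕ) : ℤ) := by push_cast; rw [h']; nlinarith
    exact_mod_cast this
  obtain ⟨e⟩ := pb_tw_Fm hdim hg hgen κ hκ hκ2 σ hσp N hN hNinv hσ (s := m + m - (g - 1) * (r + 1))
    (Nat.sub_add_cancel hle')
  have hs : ((m + m - (g - 1) * (r + 1) : ℕ) : ℤ) = 2 * m - ((g : ℤ) - 1) * (r + 1) := by
    rw [Nat.cast_sub hle']; push_cast; rw [h']; ring
  have hsmall : m + m - (g - 1) * (r + 1) + 1 ≤ g := by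
    have : ((m + m - (g - 1) * (r + 1) : ℕ) : ℤ) + 1 ≤ g := by rw [hs]; nlinarith
    exact_mod_cast this
  have h1 := tw_h1 hdim hg hgen κ hκ hκ2 σ hσp N hN hNinv hσ hm r (by linarith)
  have h0 := h0_step hdim σ hσp N hN hNinv hF h1
  have h2 := tw_h2 hdim hg hgen κ hκ hκ2 σ hσp N hN hNinv hσ hm
  have hχ := euler_step hdim σ hσp N hN hNinv hF r
  haveI := integral k C
  rw [euler_three hdim, euler_three hdim, CurvLib.euler_curve hdim, h0, h1, h2, h2] at hχ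
  rw [(CurvLib.hIso (k := k) e 1).finrank_eq, (hh_small hdim hg hgen κ hκ hκ2 hsmall).2, hs] at hχ
  push_cast at hχ
  linarith

end Border

/-- The intersection number of two classes, through Euler characteristics. -/
theorem pr_expand {k : Type u} [Field k] {X : Scheme.{u}} [X.Over (Spec (CommRingCat.of k))] (P Q : X.Modules) :
    HodgeIdxLib.pr k P Q = Curv2.euler k X (CohB1.tensorMod Q P) - Curv2.euler k X P - Curv2.euler k X Q +
      Curv2.euler k X (Coh.structureModule X) := by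
  have e : ∀ M : X.Modules, CohB1.tensorMod M (Coh.structureModule X) ≅ M := fun M => swapIso _ _ ≪≫ unitLeft M
  simp only [HodgeIdxLib.pr, IntFunLib.N]
  rw [
    CurvLib.euler_congr (k := k) (congrRight Q (e P)), CurvLib.euler_congr (k := k) (e P),
    CurvLib.euler_congr (k := k) (e Q)]
  ring

section Point

variable {k : Type u} [Field k] [IsAlgClosed k] {C : Scheme.{u}} [C.Over (Spec (CommRingCat.of k))]
  [IsProper (C ↘ Spec (CommRingCat.of k))] [Smooth (C ↘ Spec (CommRingCat.of k))] [ConnectedSpace C]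
  (hdim : topologicalKrullDim C = 1)
  (x : Spec (CommRingCat.of k) ⟶ C) (hx : x ≫ (C ↘ Spec (CommRingCat.of k)) = 𝟙 (Spec (CommRingCat.of k)))

include hdim hx in
theorem deg_point : PicF.IsInvertible (ClSub.idealMod x.ker) ∧ Curv2.deg k C (ClSub.idealMod x.ker) 1 = -1 := by
  haveI := integral k C
  haveI := geomConn (k := k) (C := C)
  haveI := CurvLib.isNoetherian k (X := C)
  refine ⟨IntMultLib.isInvertible_idealMod _ (AlgEquivCurveLib.isEffCartier_pt (k := k) hdim x hx), ?_⟩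
  obtain ⟨P, hP⟩ : ∃ P : C, P = x (IsLocalRing.closedPoint k) := ⟨_, rfl⟩
  have hPc : IsClosed ({P} : Set C) := hP ▸ GenusZeroLib.isClosed_rational x hx _
  haveI : IsDiscreteValuationRing (C.presheaf.stalk P) := HurwitzLib.dvr_stalk_closed (k := k) hdim hPc
  obtain ⟨I, ⟨eI⟩, hI', hdI⟩ := GenusZeroLib.exists_idealMod_iso (k := k) hPc hdim
  rw [show x.ker = GenusZeroLib.ptIdeal hPc by subst hP; exact SecDivLib.ker_rational x hx,
    ← CurvLib.deg_congr (k := k) eI 1, hdI]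
  subst hP
  rw [GenusZeroLib.finrank_residueField_rational x hx]
  rfl

include hdim hx in
theorem deg_A {A : C.Modules} (hAinv : ClSub.IsInverseOf A (ClSub.idealMod x.ker)) :
    Curv2.deg k C A 1 = 1 := by
  obtain ⟨e⟩ := hAinv
  obtain ⟨hI, hd⟩ := deg_point hdim x hx
  rw [deg_inverse (k := k) hdim hI (swapIso _ _ ≪≫ e), hd]; rfl

end Point

end HypSqLib
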